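import Mathlib
import Cfsg.Agent.H465.SULin_m3
import Cfsg.Agent.OddOrderLocal.CyclicSub
import Cfsg.Agent.H834.AReg
import Cfsg.Agent.H835.SylFive_m3
import Cfsg.Agent.H836.Main
import Cfsg.Agent.H465.AltPE
import Cfsg.Agent.R08.X4Gamma_m3
import Cfsg.Agent.S1696
import Cfsg.Agent.H835.ClsThree
import Cfsg.Agent.Lib.PermNetFast
import Cfsg.Agent.FastGrp
import Cfsg.Agent.Prune
set_option linter.all false

section
prune_inst 0x7f00000000000000000000000000000000000000000000000000000000000000000000000000000000000000000000000000000000000000000000000000000000000000000000000000000000000000003fffffffffffffffffffffffffffbeffbdffffffff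

-- part: H585/GoodW
section
set_option linter.all false
open scoped Cfsg.Agent.FastGrp

-- part: H585/FacOne
section
/-!
# Consequences of the data at a good prime (helper585, for S4384)

* `exists_ns` : for `β ≠ 1` some conjugate `z` of `y` generates with `β` a non-solvable subgroup of `Aut K`;
* `GoodAt.of_order` : every element of order `r^a` is good;
* `GoodAt.wit_of_order` : every element of order `r` has a partner.
-/

set_option autoImplicit false
set_option linter.unusedSectionVars false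

namespace Cfsg.Agent.H585.FacOne

open Cfsg.Agent.H465.SU Cfsg.Agent.H585.Good

variable {K : Type*} [Group K]

theorem solvable_mono {G : Type*} [Group G] {H L : Subgroup G} (h : H ≤ L) (hL : Group.IsSolvable L) :
    Group.IsSolvable H :=
  Group.isSolvable_of_isSolvable_injective (f := Subgroup.inclusion h) (Subgroup.inclusion_injective h)

theorem solvable_map {G H : Type*} [Group G] [Group H] {S : Subgroup G} (hS : Group.IsSolvable S) (f : G →* H) :
    Group.IsSolvable (S.map f) :=
  Group.isSolvable_of_surjective (f := f.subgroupMap S) (MonoidHom.subgroupMap_surjective _ _)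

theorem center_eq_bot [IsSimpleGroup K] (hK : ¬ IsMulCommutative K) : Subgroup.center K = ⊥ := by
  rcases (inferInstance : (Subgroup.center K).Normal).eq_bot_or_eq_top with h1 | h1
  · exact h1
  · exfalso
    apply hK
    refine ⟨⟨fun a b => ?_⟩⟩
    have ha : b ∈ Subgroup.center K := by rw [h1]; trivial
    exact Subgroup.mem_center_iff.1 ha a

theorem conj_injective (hcen : Subgroup.center K = ⊥) : Function.Injective (MulAut.conj : K →* MulAut K) := by
  rw [← MonoidHom.ker_eq_bot_iff, eq_bot_iff, ← hcen]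
  intro z hz
  rw [Subgroup.mem_center_iff]
  intro l
  have h1 : MulAut.conj z l = l := by rw [MonoidHom.mem_ker.1 hz]; rfl
  rw [MulAut.conj_apply] at h1
  calc l * z = (z * l * z⁻¹) * z := by rw [h1]
    _ = z * l := by group

theorem solvable_of_conj (hcen : Subgroup.center K = ⊥) {a b : K}
    (h : Group.IsSolvable (Subgroup.closure ({MulAut.conj a, MulAut.conj b} : Set (MulAut K)))) :
    Group.IsSolvable (Subgroup.closure ({a, b} : Set K)) := by
  have h4 : (Subgroup.closure ({a, b} : Set K)).map (MulAut.conj : K →* MulAut K) =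
      Subgroup.closure ({MulAut.conj a, MulAut.conj b} : Set (MulAut K)) := by
    rw [MonoidHom.map_closure, Set.image_pair]
  rw [← h4] at h
  exact Group.isSolvable_of_isSolvable_injective
    (f := ((Subgroup.closure ({a, b} : Set K)).equivMapOfInjective _ (conj_injective hcen)).toMonoidHom)
    (MulEquiv.injective _)

/-- `SUel` depends only on the subgroup generated -/
theorem SUel.of_zpowers [Finite K] {r : ℕ} {y s : K} (h : SUel r y)
    (hz : Subgroup.zpowers y = Subgroup.zpowers s) : SUel r s := by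
  obtain ⟨hy1, ⟨k, hk⟩, hu⟩ := h
  refine ⟨?_, ⟨k, ?_⟩, ?_⟩
  · rintro rfl
    rw [Subgroup.zpowers_one_eq_bot, Subgroup.zpowers_eq_bot] at hz
    exact hy1 hz
  · rw [← Nat.card_zpowers, ← hz, Nat.card_zpowers, hk]
  · intro M hM hsM A B hA hB hAc hBc
    refine hu M hM ?_ A B hA hB hAc hBc
    have h1 : Subgroup.zpowers s ≤ M := Subgroup.zpowers_le.2 hsM
    rw [← hz] at h1
    exact h1 (Subgroup.mem_zpowers y)

/-- `Wit` depends only on the subgroup generated -/
theorem Wit.of_zpowers {r : ℕ} {x z : K} (h : Wit K r x) (hz : x ∈ Subgroup.zpowers z) : Wit K r z := by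
  obtain ⟨p, c, hp, hpr, hc, hns⟩ := h
  refine ⟨p, c, hp, hpr, hc, fun hs => hns (solvable_mono ?_ hs)⟩
  rw [Subgroup.closure_le]
  rintro g (rfl | rfl)
  · have h1 : Subgroup.zpowers z ≤ Subgroup.closure ({z, c} : Set K) :=
      Subgroup.zpowers_le.2 (Subgroup.subset_closure (by simp))
    exact h1 hz
  · exact Subgroup.subset_closure (by simp)

theorem exists_ns0 [Finite K] [IsSimpleGroup K] (hK : ¬ IsMulCommutative K) {r : ℕ} (hr : r.Prime) {y : K}
    (hsu : SUel r y) {β : MulAut K} (hβ : β ≠ 1) :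
    ∃ g : K, ¬ Group.IsSolvable (Subgroup.closure ({g * y * g⁻¹, β (g * y * g⁻¹)} : Set K)) := by
  obtain ⟨hy1, ⟨k, hk⟩, hu⟩ := hsu
  have : Fact r.Prime := ⟨hr⟩
  have hk1 := one_le_of hy1 hk
  by_contra hcon
  push Not at hcon
  apply hβ
  set A := Subgroup.zpowers (y ^ r ^ (k - 1)) with hA
  have hAc : Nat.card A = r := card_socle hk hk1
  have hyA : A ≤ Subgroup.zpowers y := Subgroup.zpowers_le.2 (Subgroup.npow_mem_zpowers _ _)
  have hAbot : A ≠ ⊥ := by
    intro h
    rw [h, Subgroup.card_bot] at hAc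
    exact hr.one_lt.ne hAc
  have hAtop : A ≠ ⊤ := by
    intro h
    apply hK
    have hc : ∀ a b : K, a * b = b * a := by
      intro a b
      have ha : a ∈ A := by rw [h]; trivial
      have hb : b ∈ A := by rw [h]; trivial
      obtain ⟨i, rfl⟩ := Subgroup.mem_zpowers_iff.1 ha
      obtain ⟨j, rfl⟩ := Subgroup.mem_zpowers_iff.1 hb
      rw [← zpow_add, ← zpow_add, add_comm]
    exact ⟨⟨hc⟩⟩
  refine eq_one_of_normalises (A := A) (fun hn => ?_) fun g => ?_
  · rcases hn.eq_bot_or_eq_top with h | h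
    · exact hAbot h
    · exact hAtop h
  · have h1 := hcon g
    set M := Subgroup.closure ({g * y * g⁻¹, β (g * y * g⁻¹)} : Set K) with hM
    have hM' : Group.IsSolvable (M.map (MulAut.conj g⁻¹).toMonoidHom) := solvable_map h1 _
    have hyM : y ∈ M.map (MulAut.conj g⁻¹).toMonoidHom := by
      refine ⟨g * y * g⁻¹, Subgroup.subset_closure (by simp only [_root_.map_mul, _root_.map_inv, _root_.Set.mem_insert_iff, _root_.Set.mem_singleton_iff, _root_.true_or]), ?_⟩
      simp only [mul_assoc, _root_.map_inv, _root_.MulEquiv.toMonoidHom_eq_coe, _root_.mul_assoc, _root_.MonoidHom.coe_coe, _root_.MulAut.inv_apply, _root_.MulAut.conj_symm_apply, _root_.inv_mul_cancel_left, _root_.inv_mul_cancel, _root_.mul_one]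
    have hle1 : A.map (MulAut.conj g).toMonoidHom ≤ M := by
      rintro _ ⟨z, hz, rfl⟩
      obtain ⟨i, rfl⟩ := Subgroup.mem_zpowers_iff.1 (hyA hz)
      have h2 : g * y * g⁻¹ ∈ M := Subgroup.subset_closure (by simp only [_root_.map_mul, _root_.map_inv, _root_.Set.mem_insert_iff, _root_.Set.mem_singleton_iff, _root_.true_or])
      have h3 : (MulAut.conj g).toMonoidHom (y ^ i) = (g * y * g⁻¹) ^ i := by
        show g * y ^ i * g⁻¹ = _
        rw [conj_zpow]
      rw [h3]
      exact Subgroup.zpow_mem _ h2 i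
    have hle2 : (A.map (MulAut.conj g).toMonoidHom).map β.toMonoidHom ≤ M := by
      rintro _ ⟨_, ⟨z, hz, rfl⟩, rfl⟩
      obtain ⟨i, rfl⟩ := Subgroup.mem_zpowers_iff.1 (hyA hz)
      have h2 : β (g * y * g⁻¹) ∈ M := Subgroup.subset_closure (by simp only [_root_.map_mul, _root_.map_inv, _root_.Set.mem_insert_iff, _root_.Set.mem_singleton_iff, _root_.or_true])
      have h3 : β.toMonoidHom ((MulAut.conj g).toMonoidHom (y ^ i)) = (β (g * y * g⁻¹)) ^ i := by
        show β (g * y ^ i * g⁻¹) = _
        rw [← map_zpow, conj_zpow]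
      rw [h3]
      exact Subgroup.zpow_mem _ h2 i
    have hcard : ∀ B : Subgroup K, ∀ e : MulAut K, Nat.card (B.map e.toMonoidHom) = Nat.card B := fun B e =>
      Subgroup.card_map_of_injective e.injective
    have h4 := hu _ hM' hyM _ _ (Subgroup.map_mono (f := (MulAut.conj g⁻¹).toMonoidHom) hle1)
      (Subgroup.map_mono (f := (MulAut.conj g⁻¹).toMonoidHom) hle2) (by rw [hcard, hcard, hAc])
      (by rw [hcard, hcard, hcard, hAc])
    exact (Subgroup.map_injective (f := (MulAut.conj g⁻¹).toMonoidHom) (MulAut.conj g⁻¹).injective h4).symm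

/-- **a nontrivial automorphism and a conjugate of the solvably unique element** -/
theorem exists_ns [Finite K] [IsSimpleGroup K] (hK : ¬ IsMulCommutative K) {r : ℕ} (hr : r.Prime) {y : K}
    (hsu : SUel r y) {β : MulAut K} (hβ : β ≠ 1) :
    ∃ g : K, ¬ Group.IsSolvable
      (Subgroup.closure ({MulAut.conj (g * y * g⁻¹), β} : Set (MulAut K))) := by
  obtain ⟨g, hg⟩ := exists_ns0 hK hr hsu hβ
  refine ⟨g, fun hs => hg ?_⟩
  refine solvable_of_conj (center_eq_bot hK) (solvable_mono ?_ hs)
  rw [Subgroup.closure_le]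
  rintro z (rfl | rfl)
  · exact Subgroup.subset_closure (by simp only [_root_.map_mul, _root_.map_inv, _root_.Set.mem_insert_iff, _root_.Set.mem_singleton_iff, _root_.true_or])
  · have e : (MulAut.conj (β (g * y * g⁻¹)) : MulAut K) = β * MulAut.conj (g * y * g⁻¹) * β⁻¹ := by
      ext l
      simp only [_root_.map_mul, _root_.map_inv, _root_.MulAut.mul_apply, _root_.MulAut.inv_apply, _root_.MulAut.conj_symm_apply, _root_.MulAut.conj_apply, _root_.MulEquiv.apply_symm_apply]
    rw [e]
    exact mul_mem (mul_mem (Subgroup.subset_closure (by simp only [_root_.map_mul, _root_.map_inv, _root_.Set.mem_insert_iff, _root_.Set.mem_singleton_iff, _root_.or_true])) (Subgroup.subset_closure (by simp only [_root_.map_mul, _root_.map_inv, _root_.Set.mem_insert_iff, _root_.Set.mem_singleton_iff, _root_.true_or])))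
      (inv_mem (Subgroup.subset_closure (by simp only [_root_.map_mul, _root_.map_inv, _root_.Set.mem_insert_iff, _root_.Set.mem_singleton_iff, _root_.or_true])))

/-- `⟨y⟩` is a Sylow subgroup -/
theorem exists_sylow [Finite K] {r a : ℕ} [Fact r.Prime] {y : K} (hy : orderOf y = r ^ a)
    (hc : ¬ r ^ (a + 1) ∣ Nat.card K) : ∃ P : Sylow r K, (P : Subgroup K) = Subgroup.zpowers y := by
  have hr : r.Prime := Fact.out
  obtain ⟨P, hP⟩ := (IsPGroup.of_card (p := r) (n := a) (by rw [Nat.card_zpowers, hy]) :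
    IsPGroup r (Subgroup.zpowers y)).exists_le_sylow
  refine ⟨P, (Subgroup.eq_of_le_of_card_ge hP ?_).symm⟩
  obtain ⟨b, hb⟩ := IsPGroup.iff_card.1 P.isPGroup'
  rw [Nat.card_zpowers, hy, hb]
  refine Nat.pow_le_pow_right hr.pos ?_
  by_contra h
  apply hc
  refine (pow_dvd_pow r (show a + 1 ≤ b by omega)).trans ?_
  rw [← hb]
  exact Subgroup.card_subgroup_dvd_card _

/-- a subgroup of order a power of `r` containing `s` is conjugate into `⟨y⟩` -/
theorem exists_conj [Finite K] {r a : ℕ} [Fact r.Prime] {y : K} (hy : orderOf y = r ^ a)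
    (hc : ¬ r ^ (a + 1) ∣ Nat.card K) {s : K} {b : ℕ} (hs : orderOf s = r ^ b) :
    ∃ h : K, s ∈ Subgroup.zpowers (h * y * h⁻¹) := by
  obtain ⟨P, hP⟩ := exists_sylow hy hc
  obtain ⟨P', hP'⟩ := (IsPGroup.of_card (p := r) (n := b) (by rw [Nat.card_zpowers, hs]) :
    IsPGroup r (Subgroup.zpowers s)).exists_le_sylow
  obtain ⟨h, hh⟩ := MulAction.exists_smul_eq K P P'
  refine ⟨h, ?_⟩
  have h1 : s ∈ (P' : Subgroup K) := hP' (Subgroup.mem_zpowers s)
  rw [← hh] at h1
  have h2 : s ∈ (P : Subgroup K).map (MulAut.conj h).toMonoidHom := h1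
  rw [hP, MonoidHom.map_zpowers] at h2
  exact h2

variable {r a : ℕ} {y : K}

theorem _root_.Cfsg.Agent.H585.Good.GoodAt.of_order [Finite K] (h : GoodAt K r a y) {s : K}
    (hs : orderOf s = r ^ a) : GoodAt K r a s := by
  have hrf : Fact r.Prime := ⟨h.prime⟩
  obtain ⟨g, hg⟩ := exists_conj h.ord h.syl hs
  have h1 : GoodAt K r a (g * y * g⁻¹) := h.congr (MulAut.conj g)
  set z := g * y * g⁻¹ with hz
  have hzs : Subgroup.zpowers z = Subgroup.zpowers s := by
    symm
    refine Subgroup.eq_of_le_of_card_ge (Subgroup.zpowers_le.2 hg) ?_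
    rw [Nat.card_zpowers, Nat.card_zpowers, h1.ord, hs]
  refine ⟨h.prime, h.odd, h.pos, hs, h.syl, SUel.of_zpowers h1.su hzs, h.inn, ?_⟩
  refine Wit.of_zpowers h1.wit ?_
  have h2 : z ∈ Subgroup.zpowers s := by rw [← hzs]; exact Subgroup.mem_zpowers z
  obtain ⟨i, hi⟩ := Subgroup.mem_zpowers_iff.1 h2
  rw [Subgroup.mem_zpowers_iff]
  refine ⟨i, ?_⟩
  rw [← hi, ← zpow_natCast, ← zpow_natCast, ← zpow_mul, ← zpow_mul, mul_comm]

theorem _root_.Cfsg.Agent.H585.Good.GoodAt.wit_of_order [Finite K] (h : GoodAt K r a y) {s : K}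
    (hs : orderOf s = r) : Wit K r s := by
  have hrf : Fact r.Prime := ⟨h.prime⟩
  obtain ⟨g, hg⟩ := exists_conj h.ord h.syl (b := 1) (by rw [hs, pow_one])
  have h1 : GoodAt K r a (g * y * g⁻¹) := h.congr (MulAut.conj g)
  set z := g * y * g⁻¹ with hz
  refine Wit.of_zpowers h1.wit ?_
  have h2 : Subgroup.zpowers s = Subgroup.zpowers (z ^ r ^ (a - 1)) := by
    refine Cfsg.Agent.OddOrderLocal.CyclicSub.eq_of_card_eq_of_le_cyclic (Z := Subgroup.zpowers z) inferInstance
      (Subgroup.zpowers_le.2 hg) (Subgroup.zpowers_le.2 (Subgroup.npow_mem_zpowers _ _)) ?_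
    rw [Nat.card_zpowers, hs, card_socle h1.ord h.pos]
  rw [h2]
  exact Subgroup.mem_zpowers _

/-- the elements of order `r` exist inside -/
theorem _root_.Cfsg.Agent.H585.Good.GoodAt.dvd_card [Finite K] (h : GoodAt K r a y) : r ^ a ∣ Nat.card K := by
  rw [← h.ord]
  exact orderOf_dvd_natCard y

end Cfsg.Agent.H585.FacOne
end

-- part: H585/GoodW
section
/-!
# The weak form of the data at a good prime (helper585, for S4384)

* `GoodW K r a y`, `HasGoodW K`, `.congr`;
* `GoodAt.toW`, `HasGood.toW`;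
* `GoodW.of_exc` : the case of a Sylow subgroup of prime order (the partner is automatic);
* `GoodW.of_order`, `GoodW.wit_of_order` : all elements of order `r^a`, resp. `r`.
-/

set_option autoImplicit false
set_option linter.unusedSectionVars false

namespace Cfsg.Agent.H585.GW

open Cfsg.Agent.H465.SU Cfsg.Agent.H585.Good Cfsg.Agent.H585.FacOne

/-- the data at the prime `r`, weak form -/
structure GoodW (K : Type*) [Group K] (r a : ℕ) (y : K) : Prop where
  prime : r.Prime
  pos : 1 ≤ a
  ord : orderOf y = r ^ a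
  syl : ¬ r ^ (a + 1) ∣ Nat.card K
  inn : InnAt K r
  ns : ∀ β : MulAut K, (orderOf β).Prime → ∃ g : K, ¬ Group.IsSolvable
    (Subgroup.closure ({MulAut.conj (g * y * g⁻¹), β} : Set (MulAut K)))
  wit : Wit K r (y ^ r ^ (a - 1))

/-- there is a good prime, weak form -/
def HasGoodW (K : Type*) [Group K] : Prop := ∃ (r a : ℕ) (y : K), GoodW K r a y

variable {K : Type*} [Group K] {L : Type*} [Group L]

theorem solvable_map_equiv {G H : Type*} [Group G] [Group H] (e : G ≃* H) {S : Set G}
    (h : Group.IsSolvable (Subgroup.closure (e '' S))) : Group.IsSolvable (Subgroup.closure S) := by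
  have h1 : (Subgroup.closure S).map e.toMonoidHom = Subgroup.closure (e '' S) := by
    rw [MonoidHom.map_closure]; rfl
  rw [← h1] at h
  exact Group.isSolvable_of_isSolvable_injective
    (f := ((Subgroup.closure S).equivMapOfInjective e.toMonoidHom e.injective).toMonoidHom)
    (MulEquiv.injective _)

theorem congr_conj (e : K ≃* L) (x : K) : MulAut.congr e (MulAut.conj x) = MulAut.conj (e x) := by
  ext l
  show e (x * e.symm l * x⁻¹) = e x * l * (e x)⁻¹
  rw [map_mul, map_mul, map_inv, e.apply_symm_apply]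

theorem GoodW.congr {r a : ℕ} {y : K} (h : GoodW K r a y) (e : K ≃* L) : GoodW L r a (e y) where
  prime := h.prime
  pos := h.pos
  ord := by rw [MulEquiv.orderOf_eq, h.ord]
  syl := by rw [← Nat.card_congr e.toEquiv]; exact h.syl
  inn := h.inn.congr e
  ns := by
    intro β hβ
    have hb : (orderOf (MulAut.congr e.symm β)).Prime := by rw [MulEquiv.orderOf_eq]; exact hβ
    obtain ⟨g, hg⟩ := h.ns _ hb
    refine ⟨e g, fun hs => hg ?_⟩
    refine solvable_map_equiv (MulAut.congr e) ?_
    have h1 : MulAut.congr e (MulAut.congr e.symm β) = β := by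
      ext l
      show e (e.symm (β (e (e.symm l)))) = β l
      rw [e.apply_symm_apply, e.apply_symm_apply]
    have h2 : e (g * y * g⁻¹) = e g * e y * (e g)⁻¹ := by rw [map_mul, map_mul, map_inv]
    rw [Set.image_pair, congr_conj, h1, h2]
    exact hs
  wit := by rw [← map_pow]; exact h.wit.congr e

theorem HasGoodW.congr (h : HasGoodW K) (e : K ≃* L) : HasGoodW L := by
  obtain ⟨r, a, y, hy⟩ := h
  exact ⟨r, a, e y, hy.congr e⟩

theorem _root_.Cfsg.Agent.H585.Good.GoodAt.toW [Finite K] [IsSimpleGroup K] (hK : ¬ IsMulCommutative K)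
    {r a : ℕ} {y : K} (h : GoodAt K r a y) : GoodW K r a y :=
  ⟨h.prime, h.pos, h.ord, h.syl, h.inn, fun β hβ => exists_ns hK h.prime h.su (by
    rintro rfl
    rw [orderOf_one] at hβ
    exact Nat.not_prime_one hβ), h.wit⟩

theorem _root_.Cfsg.Agent.H585.Good.HasGood.toW [Finite K] [IsSimpleGroup K] (hK : ¬ IsMulCommutative K)
    (h : HasGood K) : HasGoodW K := by
  obtain ⟨r, a, y, hy⟩ := h
  exact ⟨r, a, y, hy.toW hK⟩

/-- a simple group is not an `r`-group -/
theorem exists_prime_ne [Finite K] [IsSimpleGroup K] (hK : ¬ IsMulCommutative K) (r : ℕ) (hr : r.Prime) :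
    ∃ p, p.Prime ∧ p ≠ r ∧ p ∣ Nat.card K := by
  by_contra hcon
  push Not at hcon
  have hrf : Fact r.Prime := ⟨hr⟩
  have hKr : IsPGroup r K := by
    intro g
    refine ⟨(Nat.card K).primeFactorsList.length, ?_⟩
    have h2 : Nat.card K = r ^ (Nat.card K).primeFactorsList.length := by
      refine Nat.eq_prime_pow_of_unique_prime_dvd Nat.card_pos.ne' ?_
      intro p hp hpK
      by_contra hpr
      exact hcon p hp hpr hpK
    rw [← h2]
    exact pow_card_eq_one'
  have hnt := hKr.center_nontrivial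
  rw [center_eq_bot hK] at hnt
  exact not_nontrivial _ hnt

/-- **a Sylow subgroup of prime order**: the partner is automatic -/
theorem GoodW.of_exc [Finite K] [IsSimpleGroup K] (hK : ¬ IsMulCommutative K) {r : ℕ} (hr : r.Prime) {y : K}
    (hy : orderOf y = r) (hc : ¬ r ^ 2 ∣ Nat.card K) (hinn : InnAt K r)
    (ns : ∀ β : MulAut K, (orderOf β).Prime → ∃ g : K, ¬ Group.IsSolvable
      (Subgroup.closure ({MulAut.conj (g * y * g⁻¹), β} : Set (MulAut K)))) : GoodW K r 1 y := by
  refine ⟨hr, le_rfl, by rw [hy, pow_one], hc, hinn, ns, ?_⟩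
  have e1 : y ^ r ^ (1 - 1) = y := by simp
  rw [e1]
  obtain ⟨p, hp, hpr, hpc⟩ := exists_prime_ne hK r hr
  have : Fact p.Prime := ⟨hp⟩
  obtain ⟨c, hcp⟩ := exists_prime_orderOf_dvd_card' p hpc
  have hcen := center_eq_bot hK
  obtain ⟨g, hg⟩ := ns (MulAut.conj c) (by
    rw [orderOf_injective _ (conj_injective hcen), hcp]
    exact hp)
  refine ⟨p, g⁻¹ * c * g, hp, hpr, ⟨1, ?_⟩, fun hs => hg ?_⟩
  · have e2 : g⁻¹ * c * g = MulAut.conj g⁻¹ c := by simp only [_root_.map_inv, _root_.MulAut.inv_apply, _root_.MulAut.conj_symm_apply]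
    rw [e2, MulEquiv.orderOf_eq, hcp, pow_one]
  · have h1 := solvable_map hs ((MulAut.conj : K →* MulAut K).comp (MulAut.conj g).toMonoidHom)
    rw [MonoidHom.map_closure, Set.image_pair] at h1
    have e3 : ((MulAut.conj : K →* MulAut K).comp (MulAut.conj g).toMonoidHom) y = MulAut.conj (g * y * g⁻¹) := rfl
    have e4 : ((MulAut.conj : K →* MulAut K).comp (MulAut.conj g).toMonoidHom) (g⁻¹ * c * g) = MulAut.conj c := by
      show MulAut.conj (g * (g⁻¹ * c * g) * g⁻¹) = _
      congr 1
      group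
    rw [e3, e4] at h1
    exact h1

variable {r a : ℕ} {y : K}

theorem GoodW.of_order [Finite K] (h : GoodW K r a y) {s : K}
    (hs : orderOf s = r ^ a) : GoodW K r a s := by
  have hrf : Fact r.Prime := ⟨h.prime⟩
  obtain ⟨g, hg⟩ := exists_conj h.ord h.syl hs
  have h1 : GoodW K r a (g * y * g⁻¹) := h.congr (MulAut.conj g)
  set z := g * y * g⁻¹ with hz
  have hzs : Subgroup.zpowers z = Subgroup.zpowers s := by
    symm
    refine Subgroup.eq_of_le_of_card_ge (Subgroup.zpowers_le.2 hg) ?_
    rw [Nat.card_zpowers, Nat.card_zpowers, h1.ord, hs]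
  have h2 : z ∈ Subgroup.zpowers s := by rw [← hzs]; exact Subgroup.mem_zpowers z
  obtain ⟨i, hi⟩ := Subgroup.mem_zpowers_iff.1 h2
  refine ⟨h.prime, h.pos, hs, h.syl, h.inn, fun β hβ => ?_, ?_⟩
  · obtain ⟨k, hk⟩ := h1.ns β hβ
    refine ⟨k, fun hsol => hk (solvable_mono ?_ hsol)⟩
    rw [Subgroup.closure_le]
    rintro w (rfl | rfl)
    · have e1 : (MulAut.conj (k * z * k⁻¹) : MulAut K) = (MulAut.conj (k * s * k⁻¹)) ^ i := by
        rw [← map_zpow, conj_zpow, hi]
      rw [e1]
      exact Subgroup.zpow_mem _ (Subgroup.subset_closure (by simp only [_root_.map_mul, _root_.map_inv, _root_.Set.mem_insert_iff, _root_.Set.mem_singleton_iff, _root_.true_or])) i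
    · exact Subgroup.subset_closure (by simp only [_root_.map_mul, _root_.map_inv, _root_.Set.mem_insert_iff, _root_.Set.mem_singleton_iff, _root_.or_true])
  · refine Wit.of_zpowers h1.wit ?_
    rw [Subgroup.mem_zpowers_iff]
    refine ⟨i, ?_⟩
    rw [← hi, ← zpow_natCast, ← zpow_natCast, ← zpow_mul, ← zpow_mul, mul_comm]

theorem GoodW.wit_of_order [Finite K] (h : GoodW K r a y) {s : K}
    (hs : orderOf s = r) : Wit K r s := by
  have hrf : Fact r.Prime := ⟨h.prime⟩
  obtain ⟨g, hg⟩ := exists_conj h.ord h.syl (b := 1) (by rw [hs, pow_one])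
  have h1 : GoodW K r a (g * y * g⁻¹) := h.congr (MulAut.conj g)
  set z := g * y * g⁻¹ with hz
  refine Wit.of_zpowers h1.wit ?_
  have h2 : Subgroup.zpowers s = Subgroup.zpowers (z ^ r ^ (a - 1)) := by
    refine Cfsg.Agent.OddOrderLocal.CyclicSub.eq_of_card_eq_of_le_cyclic (Z := Subgroup.zpowers z) inferInstance
      (Subgroup.zpowers_le.2 hg) (Subgroup.zpowers_le.2 (Subgroup.npow_mem_zpowers _ _)) ?_
    rw [Nat.card_zpowers, hs, card_socle h1.ord h.pos]
  rw [h2]
  exact Subgroup.mem_zpowers _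

theorem GoodW.dvd_card [Finite K] (h : GoodW K r a y) : r ^ a ∣ Nat.card K := by
  rw [← h.ord]
  exact orderOf_dvd_natCard y

end Cfsg.Agent.H585.GW
end
end

-- part: H184/Fi22Ok
section
set_option linter.all false
open scoped Cfsg.Agent.FastGrp

/-!
# The row `Fi22` of S4384: automorphisms of prime order and elements of order 13 (task 1951, helper184)

`Ok β` : some element `z` of order 13 has `⟨z, β⟩` not solvable. Proved here for the outer involutions (up to
conjugacy), the involutions of `Fi22` (representatives) and all elements of order 5, 7, 11, 13.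
-/

set_option autoImplicit false
set_option maxRecDepth 100000

namespace Cfsg.Agent.H184.Fi22Ok

open Cfsg.Spor Cfsg.Spor.Fi22 Cfsg.Agent.Lib.PermNet Cfsg.Agent.Lib.PermNetOrbit Cfsg.Agent.Lib.PermNetFix
open Cfsg.Agent.Fischer Cfsg.Agent.Fischer.Fi22PtsRep Cfsg.Agent.H834 Cfsg.Agent.H834.AC
open Cfsg.Agent.H833.Flip
open Cfsg.Agent.R01.AlphaIso (flip)

/-- some element `z` of order 13 has `⟨z, β⟩` not solvable -/
def Ok (β : MulAut Spor.Fi22) : Prop := ∃ z : Spor.Fi22, orderOf z = 13 ∧
  ¬ Group.IsSolvable (Subgroup.closure ({MulAut.conj z, β} : Set (MulAut Spor.Fi22)))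

theorem Ok.conj {β : MulAut Spor.Fi22} (h : Ok β) (γ : MulAut Spor.Fi22) : Ok (γ * β * γ⁻¹) := by
  obtain ⟨z, hz, hns⟩ := h
  refine ⟨γ z, by rw [MulEquiv.orderOf_eq, hz], fun hs => hns ?_⟩
  refine H585.GW.solvable_map_equiv (MulAut.conj γ) ?_
  rw [Set.image_pair, MulAut.conj_apply, MulAut.conj_apply]
  have h1 : γ * MulAut.conj z * γ⁻¹ = MulAut.conj (γ z) := by
    ext l
    show γ (z * γ⁻¹ l * z⁻¹) = γ z * l * (γ z)⁻¹
    rw [map_mul, map_mul, map_inv]
    have : γ (γ⁻¹ l) = l := γ.apply_symm_apply l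
    rw [this]
  rw [h1]
  exact hs

theorem Ok.zpowers {β β' : MulAut Spor.Fi22} (h : Ok β) (hc : β ∈ Subgroup.zpowers β') : Ok β' := by
  obtain ⟨z, hz, hns⟩ := h
  refine ⟨z, hz, fun hs => hns ?_⟩
  have hle : Subgroup.closure ({MulAut.conj z, β} : Set (MulAut Spor.Fi22)) ≤
      Subgroup.closure ({MulAut.conj z, β'} : Set (MulAut Spor.Fi22)) := by
    rw [Subgroup.closure_le]
    rintro x (rfl | rfl)
    · exact Subgroup.subset_closure (by simp)
    · exact (Subgroup.zpowers_le.2 (Subgroup.subset_closure (by simp))) hc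
  exact Group.isSolvable_of_isSolvable_injective (f := Subgroup.inclusion hle)
    (Subgroup.inclusion_injective hle)

theorem not_comm : ¬ IsMulCommutative Spor.Fi22 := by
  intro h
  exact Fi22Order.ab_ne (h.is_comm.comm _ _)

theorem conj_inj : Function.Injective (MulAut.conj : Spor.Fi22 →* MulAut Spor.Fi22) := by
  have := Fi22Order.isSimple
  exact H465.Red.conj_injective (H585.FacOne.center_eq_bot not_comm)

/-- the certificate -/
theorem ok_gen {β : MulAut Spor.Fi22} {z v : Spor.Fi22} (hz : z ^ 13 = 1) (hz1 : z ≠ 1)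
    (hv : MulAut.conj v ∈ Subgroup.closure ({MulAut.conj z, β} : Set (MulAut Spor.Fi22))) {m n : ℕ}
    (h1 : v ^ m = 1) (h2 : (z * v) ^ n = 1) (c1 : Nat.Coprime 13 m) (c2 : Nat.Coprime 13 n)
    (c3 : Nat.Coprime m n) : Ok β := by
  have h13 : Fact (Nat.Prime 13) := ⟨by norm_num⟩
  refine ⟨z, orderOf_eq_prime hz hz1, ?_⟩
  refine H465.AltPE.not_solvable_cert (u := MulAut.conj z) (v := MulAut.conj v)
    (Subgroup.subset_closure (by simp)) hv (a := 13) (b := m) (c := n) ?_ ?_ ?_ c1 c2 c3 ?_
  · rw [← map_pow, hz, map_one]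
  · rw [← map_pow, h1, map_one]
  · rw [← map_mul, ← map_pow, h2, map_one]
  · intro h
    exact hz1 (conj_inj (h.trans (map_one _).symm))

/-! ### Words -/

/-- the tautological model -/
noncomputable def M0 : Model Spor.Fi22 {x | ∃ g : Spor.Fi22, x = g * gen .a * g⁻¹} :=
  ⟨MulEquiv.refl _, fun _ => Iff.rfl⟩

theorem eq_of {u v : List Gen} (h : eqB u v = true) : wd u = wd v := M0.eq_of_eqB h

theorem wd_rep (n : ℕ) (w : List Gen) : wd (rep n w) = wd w ^ n := by
  induction n with
  | zero =>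
    rw [pow_zero]
    exact wd_nil
  | succ n ih =>
    show wd (w ++ rep n w) = _
    rw [wd_append, ih, pow_succ']

theorem pow_of {w : List Gen} {n : ℕ} (h : eqB (rep n w) [] = true) : wd w ^ n = 1 := by
  rw [← wd_rep, eq_of h, wd_nil]

theorem ne_one_of {w : List Gen} {p : ℕ} (h : Nat.beq (ptWord (nw w) p) p = false) : wd w ≠ 1 := by
  intro hw
  have h1 : φ (wd w) p = p := by rw [hw, map_one]; rfl
  rw [φ_wd_apply] at h1
  exact absurd h1 (Nat.ne_of_beq_eq_false h)

theorem wd_reverse (w : List Gen) : wd w.reverse = (wd w)⁻¹ := M0.wd_reverse w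

theorem wd_single (x : Gen) : wd [x] = gen x := by rw [wd_cons, wd_nil, mul_one]

/-- inner automorphisms -/
theorem ok_inner {x z v : List Gen} {m n p : ℕ} (hz : eqB (rep 13 z) [] = true)
    (hz1 : Nat.beq (ptWord (nw z) p) p = false)
    (hv : wd v ∈ Subgroup.closure ({wd z, wd x} : Set Spor.Fi22)) (h1 : eqB (rep m v) [] = true)
    (h2 : eqB (rep n (z ++ v)) [] = true) (c1 : Nat.Coprime 13 m) (c2 : Nat.Coprime 13 n)
    (c3 : Nat.Coprime m n) : Ok (MulAut.conj (wd x)) := by
  refine ok_gen (z := wd z) (v := wd v) (pow_of hz) (ne_one_of hz1) ?_ (pow_of h1) ?_ c1 c2 c3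
  · have h3 := Subgroup.mem_map_of_mem (MulAut.conj : Spor.Fi22 →* MulAut Spor.Fi22) hv
    rw [MonoidHom.map_closure, Set.image_pair] at h3
    exact h3
  · rw [← wd_append]
    exact pow_of h2

theorem ok_inner' {x z : List Gen} {m n p : ℕ} (hz : eqB (rep 13 z) [] = true)
    (hz1 : Nat.beq (ptWord (nw z) p) p = false) (h1 : eqB (rep m x) [] = true)
    (h2 : eqB (rep n (z ++ x)) [] = true) (c1 : Nat.Coprime 13 m) (c2 : Nat.Coprime 13 n)
    (c3 : Nat.Coprime m n) : Ok (MulAut.conj (wd x)) :=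
  ok_inner hz hz1 (Subgroup.subset_closure (by simp)) h1 h2 c1 c2 c3

/-- outer automorphisms -/
theorem ok_outer {β : MulAut Spor.Fi22} {z z' : List Gen} (hβ : β (wd z) = wd z') {i j m n p : ℕ}
    (hz : eqB (rep 13 z) [] = true) (hz1 : Nat.beq (ptWord (nw z) p) p = false)
    (h1 : eqB (rep m (rep i z ++ rep j z')) [] = true)
    (h2 : eqB (rep n (z ++ (rep i z ++ rep j z'))) [] = true) (c1 : Nat.Coprime 13 m)
    (c2 : Nat.Coprime 13 n) (c3 : Nat.Coprime m n) : Ok β := by
  refine ok_gen (z := wd z) (v := wd (rep i z ++ rep j z')) (pow_of hz) (ne_one_of hz1) ?_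
    (pow_of h1) ?_ c1 c2 c3
  · have k1 : MulAut.conj (wd z) ∈
        Subgroup.closure ({MulAut.conj (wd z), β} : Set (MulAut Spor.Fi22)) :=
      Subgroup.subset_closure (by simp)
    have k2 : β ∈ Subgroup.closure ({MulAut.conj (wd z), β} : Set (MulAut Spor.Fi22)) :=
      Subgroup.subset_closure (by simp)
    have k3 : MulAut.conj (wd z') ∈
        Subgroup.closure ({MulAut.conj (wd z), β} : Set (MulAut Spor.Fi22)) := by
      have h3 : MulAut.conj (wd z') = β * MulAut.conj (wd z) * β⁻¹ := by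
        rw [← hβ]
        ext l
        show β (wd z) * l * (β (wd z))⁻¹ = β (wd z * β⁻¹ l * (wd z)⁻¹)
        rw [map_mul, map_mul, map_inv]
        have : β (β⁻¹ l) = l := β.apply_symm_apply l
        rw [this]
      rw [h3]
      exact mul_mem (mul_mem k2 k1) (inv_mem k2)
    rw [wd_append, wd_rep, wd_rep, map_mul, map_pow, map_pow]
    exact mul_mem (pow_mem k1 _) (pow_mem k3 _)
  · rw [← wd_append]
    exact pow_of h2

theorem flipA_wd (w : List Gen) : flipA (wd w) = wd (w.map flip) := by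
  induction w with
  | nil => rw [wd_nil, map_one]; rfl
  | cons x w ih => rw [wd_cons, map_mul, ih, flipA_gen, List.map_cons, wd_cons]

theorem flipA_conj_wd (s w : List Gen) : (flipA * MulAut.conj (wd s)) (wd w) =
    wd ((s ++ (w ++ s.reverse)).map flip) := by
  rw [MulAut.mul_apply, MulAut.conj_apply, ← flipA_wd, wd_append, wd_append, wd_reverse, mul_assoc]

/-- the planes of a generator -/
private noncomputable def plT (x : Gen) : ℕ := asm ((List.range' 0 12).map fun b => (net x).app (plane 12 b))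

/-- the mask -/
private noncomputable def plM : ℕ := asm [1, 1, 1, 1, 1, 1, 1, 1, 1, 1, 1, 1]

/-- the image of a point : `2 ^ 4096 = 2` modulo `8191` -/
private noncomputable def plk (T p : ℕ) : ℕ := Nat.mod (Nat.land (Nat.shiftRight T p) plM) 8191

/-- the number given by a column of planes -/
private def plV : List ℕ → ℕ → ℕ
  | [], _ => 0
  | a :: l, p => (a.testBit p).toNat + 2 * plV l p

private theorem asm_col : ∀ (l : List ℕ) (p : ℕ), p < 4096 → (∀ a ∈ l, ∀ i, 4096 ≤ i → a.testBit i = false) →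
    ((asm l >>> p) &&& asm (l.map fun _ => 1)) % 8191 = plV l p % 8191
  | [], p, _, _ => by
    show ((0 >>> p) &&& 0) % 8191 = 0 % 8191
    rw [Nat.and_zero]
  | a :: l, p, hp, h => by
    have ih := asm_col l p hp fun b hb => h b (List.mem_cons_of_mem _ hb)
    have e : (asm (a :: l) >>> p) &&& asm ((a :: l).map fun _ => 1) =
        2 ^ 4096 * ((asm l >>> p) &&& asm (l.map fun _ => 1)) + (a.testBit p).toNat := by
      have hb : (a.testBit p).toNat < 2 ^ 4096 :=
        lt_of_le_of_lt (Bool.toNat_le _) (Nat.one_lt_two_pow (by norm_num))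
      apply Nat.eq_of_testBit_eq
      intro i
      rw [Nat.testBit_two_pow_mul_add _ hb]
      show ((a ||| asm l <<< 4096) >>> p &&& (1 ||| asm (l.map fun _ => 1) <<< 4096)).testBit i = _
      simp only [Nat.testBit_and, Nat.testBit_or, Nat.testBit_shiftRight, Nat.testBit_shiftLeft, Nat.testBit_one_eq_true_iff_self_eq_zero]
      by_cases hi : i < 4096
      · rw [if_pos hi, decide_eq_false (show ¬ i ≥ 4096 by omega), Bool.false_and, Bool.or_false]
        rcases Nat.eq_zero_or_pos i with rfl | h0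
        · rw [decide_eq_false (show ¬ p + 0 ≥ 4096 by omega), Bool.false_and, Bool.or_false, Nat.add_zero]
          cases a.testBit p <;> rfl
        · have h1 : Nat.testBit 1 i = false := Nat.testBit_lt_two_pow (Nat.one_lt_two_pow h0.ne')
          rw [h1, Bool.and_false]
          exact (Nat.testBit_lt_two_pow (lt_of_le_of_lt (Bool.toNat_le _) (Nat.one_lt_two_pow h0.ne'))).symm
      · have h1 : Nat.testBit 1 i = false := Nat.testBit_lt_two_pow (Nat.one_lt_two_pow (by omega))
        rw [if_neg hi, h1, h a List.mem_cons_self _ (by omega), decide_eq_true (show i ≥ 4096 by omega),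
          decide_eq_true (show p + i ≥ 4096 by omega), Bool.false_or, Bool.false_or, Bool.true_and, Bool.true_and,
          show p + i - 4096 = p + (i - 4096) by omega]
    have e2 : 2 ^ 4096 % 8191 = 2 := by decide +kernel
    rw [e, plV, Nat.add_mod, Nat.mul_mod, e2, ih, Nat.add_comm (a.testBit p).toNat, Nat.add_mod (2 * plV l p),
      Nat.mul_mod 2 (plV l p)]

private theorem plV_range (q : ℕ) (f : ℕ → ℕ) (p : ℕ) : ∀ (n s : ℕ), (∀ b < s + n, (f b).testBit p = q.testBit b) →
    plV ((List.range' s n).map f) p = (q >>> s) % 2 ^ n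
  | 0, s, _ => by simp [plV, Nat.mod_one]
  | n + 1, s, h => by
    rw [List.range'_succ, List.map_cons, plV, plV_range q f p n (s + 1) fun b hb => h b (by omega), h s (by omega),
      pow_succ', Nat.mod_mul, Nat.shiftRight_succ, Nat.toNat_testBit, Nat.shiftRight_eq_div_pow]

private theorem plT_eq (x : Gen) : plT x = asm ((List.range' 0 12).map fun b => (net x).app (plane 12 b)) := rfl

private theorem plk_eq (x : Gen) {p : ℕ} (hp : p < 4096) : plk (plT x) p = (net x).perm p := by
  have h1 := asm_col ((List.range' 0 12).map fun b => (net x).app (plane 12 b)) p hp fun a ha i hi => by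
    obtain ⟨b, hb, rfl⟩ := List.mem_map.1 ha
    rw [testBit_app (net_ok x), perm_eq_of_le (net_ok x) (by omega)]
    exact testBit_plane_of_le _ _ _ (by omega) (by simpa using hb)
  have h2 : (net x).perm p < 2 ^ 12 := perm_lt (net_ok x) (by omega)
  rw [plV_range ((net x).perm p) _ p 12 0 fun b hb => by
    rw [testBit_app (net_ok x), testBit_plane _ _ _ h2 (by omega)], ← plT_eq, Nat.shiftRight_zero,
    Nat.mod_eq_of_lt h2, Nat.mod_eq_of_lt (show (net x).perm p < 8191 by omega)] at h1
  exact h1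

/-- one letter on seven points -/
private noncomputable def st7 (T : ℕ) (κ : ℕ → ℕ → ℕ → ℕ → ℕ → ℕ → ℕ → Bool) (a b c d e f g : ℕ) : Bool :=
  seqB (plk T a) fun a => seqB (plk T b) fun b => seqB (plk T c) fun c => seqB (plk T d) fun d =>
    seqB (plk T e) fun e => seqB (plk T f) fun f => seqB (plk T g) fun g => κ a b c d e f g

/-- a word on seven points -/
private noncomputable def fw7 (w : List Gen) : (ℕ → ℕ → ℕ → ℕ → ℕ → ℕ → ℕ → Bool) → ℕ → ℕ → ℕ → ℕ → ℕ → ℕ → ℕ → Bool :=
  List.rec (fun κ => κ) (fun x _ ih κ => ih (st7 (plT x) κ)) w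

private theorem ptw_lt (w : List Gen) {p : ℕ} (hp : p < 4096) : ptWord (nw w) p < 4096 := by
  rw [ptWord_eq (nw_ok w)]
  exact wperm_lt (nw_ok w) hp

private theorem ptw_cons (x : Gen) (w : List Gen) {p : ℕ} (hp : p < 4096) :
    plk (plT x) (ptWord (nw w) p) = ptWord (nw (x :: w)) p := by
  rw [plk_eq x (ptw_lt w hp), ptWord_eq (nw_ok w), ptWord_eq (nw_ok (x :: w))]
  rfl

private theorem fw7_eq : ∀ (w : List Gen) (κ : ℕ → ℕ → ℕ → ℕ → ℕ → ℕ → ℕ → Bool),
    fw7 w κ 92 88 43 40 16 2 0 = κ (ptWord (nw w) 92) (ptWord (nw w) 88) (ptWord (nw w) 43) (ptWord (nw w) 40)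
      (ptWord (nw w) 16) (ptWord (nw w) 2) (ptWord (nw w) 0)
  | [], _ => rfl
  | x :: w, κ => by
    refine (fw7_eq w (st7 (plT x) κ)).trans ?_
    rw [st7]
    simp only [seqB_eq]
    rw [ptw_cons x w (by norm_num), ptw_cons x w (by norm_num), ptw_cons x w (by norm_num), ptw_cons x w (by norm_num),
      ptw_cons x w (by norm_num), ptw_cons x w (by norm_num), ptw_cons x w (by norm_num)]

/-- the fast version of `eqB` -/
private noncomputable def eqF (u v : List Gen) : Bool :=
  fw7 u (fun a b c d e f g => fw7 v (fun a' b' c' d' e' f' g' => and (Nat.beq a a') (and (Nat.beq b b')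
    (and (Nat.beq c c') (and (Nat.beq d d') (and (Nat.beq e e') (and (Nat.beq f f') (and (Nat.beq g g') true)))))))
    92 88 43 40 16 2 0) 92 88 43 40 16 2 0

private theorem eqF_eq (u v : List Gen) : eqF u v = eqB u v := by
  rw [eqF, fw7_eq, fw7_eq]
  rfl

private theorem eqB_F : eqB = eqF := funext₂ fun u v => (eqF_eq u v).symm

/-! ### The involutions -/

theorem ok_d0 : Ok (MulAut.conj (wd [.d])) := by
  have h := ok_inner' (x := [.d]) (z := [.e, .d, .c, .b, .a, .i, .h, .f])
    (m := 2) (n := 9) (p := 0) (by first | (rewrite [eqB_F]; decide +kernel) | decide +kernel) (by first | (rewrite [eqB_F]; decide +kernel) | decide +kernel) (by first | (rewrite [eqB_F]; decide +kernel) | decide +kernel)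
    (by first | (rewrite [eqB_F]; decide +kernel) | decide +kernel) (by norm_num) (by norm_num) (by norm_num)
  exact h

theorem ok_di0 : Ok (MulAut.conj (wd [.d, .i])) := by
  have h := ok_inner' (x := [.d, .i]) (z := [.e, .i, .b, .e, .h, .d, .a, .f, .c, .e])
    (m := 2) (n := 7) (p := 0) (by first | (rewrite [eqB_F]; decide +kernel) | decide +kernel) (by first | (rewrite [eqB_F]; decide +kernel) | decide +kernel) (by first | (rewrite [eqB_F]; decide +kernel) | decide +kernel)
    (by first | (rewrite [eqB_F]; decide +kernel) | decide +kernel) (by norm_num) (by norm_num) (by norm_num)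
  exact h

theorem ok_ace0 : Ok (MulAut.conj (wd [.a, .c, .e])) := by
  have h := ok_inner' (x := [.a, .c, .e]) (z := [.b, .i, .a, .b, .c, .d, .e, .f, .h, .b])
    (m := 2) (n := 9) (p := 0) (by first | (rewrite [eqB_F]; decide +kernel) | decide +kernel) (by first | (rewrite [eqB_F]; decide +kernel) | decide +kernel) (by first | (rewrite [eqB_F]; decide +kernel) | decide +kernel)
    (by first | (rewrite [eqB_F]; decide +kernel) | decide +kernel) (by norm_num) (by norm_num) (by norm_num)
  exact h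

theorem ok_d : Ok (MulAut.conj (gen .d)) := by
  have h := ok_d0
  rwa [wd_single] at h

theorem ok_di : Ok (MulAut.conj (gen .d * gen .i)) := by
  have h := ok_di0
  rwa [wd_cons, wd_single] at h

theorem ok_ace : Ok (MulAut.conj (gen .a * gen .c * gen .e)) := by
  have h := ok_ace0
  rwa [wd_cons, wd_cons, wd_single, ← mul_assoc] at h

theorem ok_flip : Ok flipA := by
  refine ok_outer (z := [.c, .d, .c, .i, .h, .f, .e, .g, .b, .c])
    (z' := [.e, .d, .e, .i, .h, .b, .c, .a, .f, .e])
    ?_ (i := 1) (j := 2) (m := 10) (n := 3) (p := 0) (by first | (rewrite [eqB_F]; decide +kernel) | decide +kernel) (by first | (rewrite [eqB_F]; decide +kernel) | decide +kernel)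
    (by first | (rewrite [eqB_F]; decide +kernel) | decide +kernel) (by first | (rewrite [eqB_F]; decide +kernel) | decide +kernel) (by norm_num) (by norm_num) (by norm_num)
  exact flipA_wd _

theorem ok_flip_d : Ok (flipA * MulAut.conj (gen .d)) := by
  refine ok_outer (z := [.c, .i, .h, .f, .e, .g, .b, .d])
    (z' := [.d, .e, .i, .h, .b, .c, .a, .f, .d, .d])
    ?_ (i := 1) (j := 1) (m := 6) (n := 7) (p := 0) (by first | (rewrite [eqB_F]; decide +kernel) | decide +kernel) (by first | (rewrite [eqB_F]; decide +kernel) | decide +kernel)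
    (by first | (rewrite [eqB_F]; decide +kernel) | decide +kernel) (by first | (rewrite [eqB_F]; decide +kernel) | decide +kernel) (by norm_num) (by norm_num) (by norm_num)
  rw [← wd_single]
  exact flipA_conj_wd [.d] _

theorem ok_flip_di : Ok (flipA * MulAut.conj (gen .d * gen .i)) := by
  refine ok_outer (z := [.c, .b, .i, .a, .d, .c, .i, .h, .f, .e, .g, .b, .a, .i, .b, .c])
    (z' := [.d, .i, .e, .f, .i, .g, .d, .e, .i, .h, .b, .c, .a, .f, .g, .i, .f, .e, .i, .d])
    ?_ (i := 1) (j := 1) (m := 3) (n := 4) (p := 0) (by first | (rewrite [eqB_F]; decide +kernel) | decide +kernel) (by first | (rewrite [eqB_F]; decide +kernel) | decide +kernel)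
    (by first | (rewrite [eqB_F]; decide +kernel) | decide +kernel) (by first | (rewrite [eqB_F]; decide +kernel) | decide +kernel) (by norm_num) (by norm_num) (by norm_num)
  have e : gen .d * gen .i = wd [.d, .i] := by rw [wd_cons, wd_single]
  rw [e]
  exact flipA_conj_wd [.d, .i] _

/-! ### The elements of order 5, 7, 11, 13 -/

theorem ok_five0 : Ok (MulAut.conj (wd [.f, .h, .e, .d])) := by
  have h := ok_inner' (x := [.f, .h, .e, .d]) (z := [.i, .a, .b, .c, .d, .e, .f, .h])
    (m := 5) (n := 4) (p := 0) (by first | (rewrite [eqB_F]; decide +kernel) | decide +kernel) (by first | (rewrite [eqB_F]; decide +kernel) | decide +kernel) (by first | (rewrite [eqB_F]; decide +kernel) | decide +kernel)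
    (by first | (rewrite [eqB_F]; decide +kernel) | decide +kernel) (by norm_num) (by norm_num) (by norm_num)
  exact h

theorem ok_seven0 : Ok (MulAut.conj (wd [.g, .c, .f, .e, .d, .b])) := by
  have h := ok_inner' (x := [.g, .c, .f, .e, .d, .b]) (z := [.d, .c, .i, .h, .f, .e, .g, .b])
    (m := 7) (n := 3) (p := 0) (by first | (rewrite [eqB_F]; decide +kernel) | decide +kernel) (by first | (rewrite [eqB_F]; decide +kernel) | decide +kernel) (by first | (rewrite [eqB_F]; decide +kernel) | decide +kernel)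
    (by first | (rewrite [eqB_F]; decide +kernel) | decide +kernel) (by norm_num) (by norm_num) (by norm_num)
  exact h

theorem ok_eleven0 : Ok (MulAut.conj (wd [.f, .e, .g, .c, .b, .i, .a, .d, .e, .h, .d, .f, .e, .g, .c, .b, .i, .a, .d, .e, .h, .d])) := by
  have h := ok_inner' (x := [.f, .e, .g, .c, .b, .i, .a, .d, .e, .h, .d, .f, .e, .g, .c, .b, .i, .a, .d, .e, .h, .d]) (z := [.a, .h, .i, .a, .b, .c, .d, .e, .f, .a])
    (m := 11) (n := 2) (p := 0) (by first | (rewrite [eqB_F]; decide +kernel) | decide +kernel) (by first | (rewrite [eqB_F]; decide +kernel) | decide +kernel) (by first | (rewrite [eqB_F]; decide +kernel) | decide +kernel)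
    (by first | (rewrite [eqB_F]; decide +kernel) | decide +kernel) (by norm_num) (by norm_num) (by norm_num)
  exact h

theorem ok_thirteen0 : Ok (MulAut.conj (wd [.c, .i, .h, .f, .e, .g, .b, .d])) := by
  refine ok_inner (z := [.g, .d, .c, .i, .h, .f, .e, .g, .b, .g])
    (v := [.g, .d, .c, .i, .h, .f, .e, .g, .b, .g, .c, .i, .h, .f, .e, .g, .b, .d])
    (m := 3) (n := 2) (p := 0) (by first | (rewrite [eqB_F]; decide +kernel) | decide +kernel) (by first | (rewrite [eqB_F]; decide +kernel) | decide +kernel) ?_ (by first | (rewrite [eqB_F]; decide +kernel) | decide +kernel)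
    (by first | (rewrite [eqB_F]; decide +kernel) | decide +kernel) (by norm_num) (by norm_num) (by norm_num)
  have e : wd [.g, .d, .c, .i, .h, .f, .e, .g, .b, .g, .c, .i, .h, .f, .e, .g, .b, .d] =
      wd [.g, .d, .c, .i, .h, .f, .e, .g, .b, .g] * wd [.c, .i, .h, .f, .e, .g, .b, .d] := by
    rw [← wd_append]
    rfl
  rw [e]
  exact mul_mem (Subgroup.subset_closure (by simp)) (Subgroup.subset_closure (by simp))

theorem ord_five : orderOf (wd [.f, .h, .e, .d]) = 5 := by
  have hq : Fact (Nat.Prime 5) := ⟨by norm_num⟩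
  exact orderOf_eq_prime (pow_of (by first | (rewrite [eqB_F]; decide +kernel) | decide +kernel)) (ne_one_of (p := 3) (by first | (rewrite [eqB_F]; decide +kernel) | decide +kernel))

theorem ord_seven : orderOf (wd [.g, .c, .f, .e, .d, .b]) = 7 := by
  have hq : Fact (Nat.Prime 7) := ⟨by norm_num⟩
  exact orderOf_eq_prime (pow_of (by first | (rewrite [eqB_F]; decide +kernel) | decide +kernel)) (ne_one_of (p := 0) (by first | (rewrite [eqB_F]; decide +kernel) | decide +kernel))

theorem ord_eleven : orderOf (wd [.f, .e, .g, .c, .b, .i, .a, .d, .e, .h, .d, .f, .e, .g, .c, .b, .i, .a, .d, .e, .h, .d]) = 11 := by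
  have hq : Fact (Nat.Prime 11) := ⟨by norm_num⟩
  exact orderOf_eq_prime (pow_of (by first | (rewrite [eqB_F]; decide +kernel) | decide +kernel)) (ne_one_of (p := 0) (by first | (rewrite [eqB_F]; decide +kernel) | decide +kernel))

theorem ord_thirteen : orderOf (wd [.c, .i, .h, .f, .e, .g, .b, .d]) = 13 := by
  have hq : Fact (Nat.Prime 13) := ⟨by norm_num⟩
  exact orderOf_eq_prime (pow_of (by first | (rewrite [eqB_F]; decide +kernel) | decide +kernel)) (ne_one_of (p := 0) (by first | (rewrite [eqB_F]; decide +kernel) | decide +kernel))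

end Cfsg.Agent.H184.Fi22Ok
end

-- part: H184/Fi22Three
section
set_option linter.all false
open scoped Cfsg.Agent.FastGrp

/-!
# The row `Fi22` of S4384: elements of order 3 (task 1952, helper184)
-/

set_option autoImplicit false
set_option maxRecDepth 100000

namespace Cfsg.Agent.H184.Fi22Three

open Cfsg.Spor Cfsg.Spor.Fi22 Cfsg.Agent.Lib.PermNet Cfsg.Agent.Lib.PermNetOrbit Cfsg.Agent.Lib.PermNetFix
open Cfsg.Agent.Fischer Cfsg.Agent.Fischer.Fi22PtsRep Cfsg.Agent.H834 Cfsg.Agent.H834.AC
open Cfsg.Agent.H184.Fi22Ok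

/-- representatives of the four classes of subgroups of order 3 -/
def xw3 : Fin 4 → List Gen := ![
  [.a, .b],
  [.a, .b, .e, .f],
  [.a, .b, .c, .d, .h, .e, .i, .a, .b, .c, .d, .h, .e, .i, .a, .b, .c, .d, .h, .e, .i],
  [.b, .h, .i, .c, .f, .e]]

set_option Elab.async false in
theorem ok0 : Ok (MulAut.conj (wd (xw3 0))) := by
  have h := ok_inner' (x := [.a, .b]) (z := [.c, .b, .h, .a, .c, .i, .h, .f, .e, .g, .b, .d, .a, .h, .b, .c])
    (m := 3) (n := 7) (p := 0) (by (rewrite [show @Cfsg.Agent.H834.AC.eqB = delta% @Cfsg.Agent.H834.AC.eqB from by delta Cfsg.Agent.H834.AC.eqB; rfl, show @Cfsg.Agent.H834.AC.eqL = delta% @Cfsg.Agent.H834.AC.eqL from by delta Cfsg.Agent.H834.AC.eqL; rfl, Cfsg.Agent.Lib.PermNetFast.ptWord_fast]; decide +kernel)) (by decide +kernel) (by decide +kernel)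
    (by (rewrite [show @Cfsg.Agent.H834.AC.eqB = delta% @Cfsg.Agent.H834.AC.eqB from by delta Cfsg.Agent.H834.AC.eqB; rfl, show @Cfsg.Agent.H834.AC.eqL = delta% @Cfsg.Agent.H834.AC.eqL from by delta Cfsg.Agent.H834.AC.eqL; rfl, Cfsg.Agent.Lib.PermNetFast.ptWord_fast]; decide +kernel)) (by norm_num) (by norm_num) (by norm_num)
  exact h

set_option Elab.async false in
theorem ok1 : Ok (MulAut.conj (wd (xw3 1))) := by
  have h := ok_inner' (x := [.a, .b, .e, .f]) (z := [.f, .c, .i, .b, .e, .h, .d, .a])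
    (m := 3) (n := 5) (p := 0) (by (rewrite [show @Cfsg.Agent.H834.AC.eqB = delta% @Cfsg.Agent.H834.AC.eqB from by delta Cfsg.Agent.H834.AC.eqB; rfl, show @Cfsg.Agent.H834.AC.eqL = delta% @Cfsg.Agent.H834.AC.eqL from by delta Cfsg.Agent.H834.AC.eqL; rfl, Cfsg.Agent.Lib.PermNetFast.ptWord_fast]; decide +kernel)) (by decide +kernel) (by decide +kernel)
    (by decide +kernel) (by norm_num) (by norm_num) (by norm_num)
  exact h

set_option Elab.async false in
theorem ok2 : Ok (MulAut.conj (wd (xw3 2))) := by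
  have h := ok_inner' (x := [.a, .b, .c, .d, .h, .e, .i, .a, .b, .c, .d, .h, .e, .i, .a, .b, .c, .d, .h, .e, .i]) (z := [.d, .b, .e, .h, .d, .a, .f, .c, .i, .d])
    (m := 3) (n := 4) (p := 0) (by (rewrite [show @Cfsg.Agent.H834.AC.eqB = delta% @Cfsg.Agent.H834.AC.eqB from by delta Cfsg.Agent.H834.AC.eqB; rfl, show @Cfsg.Agent.H834.AC.eqL = delta% @Cfsg.Agent.H834.AC.eqL from by delta Cfsg.Agent.H834.AC.eqL; rfl, Cfsg.Agent.Lib.PermNetFast.ptWord_fast]; decide +kernel)) (by decide +kernel) (by decide +kernel)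
    (by (rewrite [show @Cfsg.Agent.H834.AC.eqB = delta% @Cfsg.Agent.H834.AC.eqB from by delta Cfsg.Agent.H834.AC.eqB; rfl, show @Cfsg.Agent.H834.AC.eqL = delta% @Cfsg.Agent.H834.AC.eqL from by delta Cfsg.Agent.H834.AC.eqL; rfl, Cfsg.Agent.Lib.PermNetFast.ptWord_fast]; decide +kernel)) (by norm_num) (by norm_num) (by norm_num)
  exact h

set_option Elab.async false in
theorem ok3 : Ok (MulAut.conj (wd (xw3 3))) := by
  have h := ok_inner' (x := [.b, .h, .i, .c, .f, .e]) (z := [.c, .i, .b, .e, .h, .d, .a, .f])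
    (m := 3) (n := 2) (p := 0) (by (rewrite [show @Cfsg.Agent.H834.AC.eqB = delta% @Cfsg.Agent.H834.AC.eqB from by delta Cfsg.Agent.H834.AC.eqB; rfl, show @Cfsg.Agent.H834.AC.eqL = delta% @Cfsg.Agent.H834.AC.eqL from by delta Cfsg.Agent.H834.AC.eqL; rfl, Cfsg.Agent.Lib.PermNetFast.ptWord_fast]; decide +kernel)) (by decide +kernel) (by decide +kernel)
    (by decide +kernel) (by norm_num) (by norm_num) (by norm_num)
  exact h

theorem ok_xw3 (i : Fin 4) : Ok (MulAut.conj (wd (xw3 i))) := by
  fin_cases i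
  · exact ok0
  · exact ok1
  · exact ok2
  · exact ok3

theorem ord0 : orderOf (wd (xw3 0)) = 3 := by
  have hq : Fact (Nat.Prime 3) := ⟨by norm_num⟩
  exact orderOf_eq_prime (pow_of (by decide +kernel)) (ne_one_of (p := 0) (by decide +kernel))

theorem ord1 : orderOf (wd (xw3 1)) = 3 := by
  have hq : Fact (Nat.Prime 3) := ⟨by norm_num⟩
  exact orderOf_eq_prime (pow_of (by decide +kernel)) (ne_one_of (p := 0) (by decide +kernel))

theorem ord2 : orderOf (wd (xw3 2)) = 3 := by
  have hq : Fact (Nat.Prime 3) := ⟨by norm_num⟩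
  exact orderOf_eq_prime (pow_of (by decide +kernel)) (ne_one_of (p := 0) (by decide +kernel))

theorem ord3 : orderOf (wd (xw3 3)) = 3 := by
  have hq : Fact (Nat.Prime 3) := ⟨by norm_num⟩
  exact orderOf_eq_prime (pow_of (by decide +kernel)) (ne_one_of (p := 0) (by decide +kernel))

theorem ord_xw3 (i : Fin 4) : orderOf (wd (xw3 i)) = 3 := by
  fin_cases i
  · exact ord0
  · exact ord1
  · exact ord2
  · exact ord3

/-- the numbers of fixed points -/
def fx3 : Fin 4 → ℕ := ![126, 36, 27, 0]

theorem nfix0 : M0.nfix (M0.wd (xw3 0)) = 126 :=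
  M0.nfix_word (by decide +kernel) (by decide +kernel)

theorem nfix1 : M0.nfix (M0.wd (xw3 1)) = 36 :=
  M0.nfix_word (by decide +kernel) (by decide +kernel)

theorem nfix2 : M0.nfix (M0.wd (xw3 2)) = 27 :=
  M0.nfix_word (by decide +kernel) (by decide +kernel)

theorem nfix3 : M0.nfix (M0.wd (xw3 3)) = 0 :=
  M0.nfix_word (by decide +kernel) (by decide +kernel)

theorem nfix_xw3 (i : Fin 4) : M0.nfix (M0.wd (xw3 i)) = fx3 i := by
  fin_cases i
  · exact nfix0
  · exact nfix1
  · exact nfix2
  · exact nfix3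

theorem fx3_inj : Function.Injective fx3 := by decide

/-- elements generating the same subgroup have the same number of fixed points -/
theorem nfix_zpowers {x y : Spor.Fi22} (h : Subgroup.zpowers x = Subgroup.zpowers y) :
    M0.nfix x = M0.nfix y := by
  have key : ∀ {x y : Spor.Fi22}, y ∈ Subgroup.zpowers x → ∀ p : ℕ, M0.φ x p = p → M0.φ y p = p := by
    rintro x y ⟨k, rfl⟩ p hp
    have h1 : x ∈ (MulAction.stabilizer (Equiv.Perm ℕ) p).comap M0.φ := hp
    exact zpow_mem h1 k
  unfold Model.nfix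
  congr 1
  ext p
  constructor
  · rintro ⟨hp, h1⟩
    exact ⟨hp, key (h ▸ Subgroup.mem_zpowers y) p h1⟩
  · rintro ⟨hp, h1⟩
    exact ⟨hp, key (h ▸ Subgroup.mem_zpowers x) p h1⟩

/-- the subgroups generated by the representatives are not conjugate -/
theorem not_conj {i j : Fin 4} {g : Spor.Fi22}
    (h : (Subgroup.zpowers (wd (xw3 i))).map (MulAut.conj g).toMonoidHom =
      Subgroup.zpowers (wd (xw3 j))) : i = j := by
  rw [MonoidHom.map_zpowers] at h
  have h1 : M0.nfix (g * M0.wd (xw3 i) * g⁻¹) = M0.nfix (M0.wd (xw3 j)) := nfix_zpowers h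
  rw [M0.nfix_conj, nfix_xw3, nfix_xw3] at h1
  exact fx3_inj h1

theorem map_conj_trans {X Y Z : Subgroup Spor.Fi22} {g k : Spor.Fi22}
    (h1 : X.map (MulAut.conj g).toMonoidHom = Y) (h2 : Y.map (MulAut.conj k).toMonoidHom = Z) :
    X.map (MulAut.conj (k * g)).toMonoidHom = Z := by
  rw [← h2, ← h1, Subgroup.map_map]
  congr 1
  refine MonoidHom.ext fun x => ?_
  show k * g * x * (k * g)⁻¹ = k * (g * x * g⁻¹) * k⁻¹
  group

theorem map_conj_symm {X Y : Subgroup Spor.Fi22} {g : Spor.Fi22}
    (h1 : X.map (MulAut.conj g).toMonoidHom = Y) : Y.map (MulAut.conj g⁻¹).toMonoidHom = X := by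
  rw [← h1, Subgroup.map_map]
  conv_rhs => rw [← Subgroup.map_id X]
  congr 1
  refine MonoidHom.ext fun x => ?_
  show g⁻¹ * (g * x * g⁻¹) * g⁻¹⁻¹ = x
  group

/-- every subgroup of order 3 is conjugate to one of the four -/
theorem exists_rep {X : Subgroup Spor.Fi22} (hX : Nat.card X = 3) : ∃ (i : Fin 4) (g : Spor.Fi22),
    (Subgroup.zpowers (wd (xw3 i))).map (MulAut.conj g).toMonoidHom = X := by
  obtain ⟨Y, -, -, h3, -⟩ := Cfsg.Agent.H835.ClsThree.three_concl (MulEquiv.refl Spor.Fi22)
  have hj : ∀ i : Fin 4, ∃ j, ∃ g : Spor.Fi22,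
      (Subgroup.zpowers (wd (xw3 i))).map (MulAut.conj g).toMonoidHom = Y j := fun i =>
    h3 _ (by rw [Nat.card_zpowers, ord_xw3])
  choose f k hf using hj
  have hinj : Function.Injective f := by
    intro i i' hii
    have h4 := hf i
    rw [hii, ← hf i'] at h4
    exact not_conj (map_conj_trans h4 (map_conj_symm rfl))
  have hsurj := Finite.injective_iff_surjective.1 hinj
  obtain ⟨j, g, hg⟩ := h3 X hX
  obtain ⟨i, hi⟩ := hsurj j
  refine ⟨i, g⁻¹ * k i, map_conj_trans (hf i) ?_⟩
  rw [hi]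
  exact map_conj_symm hg

/-- **Elements of order 3.** -/
theorem ok_three (y : Spor.Fi22) (hy : orderOf y = 3) : Ok (MulAut.conj y) := by
  obtain ⟨i, g, hg⟩ := exists_rep (X := Subgroup.zpowers y) (by rw [Nat.card_zpowers, hy])
  have h1 : g * wd (xw3 i) * g⁻¹ ∈ Subgroup.zpowers y := by
    rw [← hg]
    exact ⟨_, Subgroup.mem_zpowers _, rfl⟩
  have h2 : Ok (MulAut.conj (g * wd (xw3 i) * g⁻¹)) := by
    rw [map_mul, map_mul, map_inv]
    exact (ok_xw3 i).conj _
  refine h2.zpowers ?_
  obtain ⟨k, hk⟩ := Subgroup.mem_zpowers_iff.1 h1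
  rw [← hk, map_zpow]
  exact Subgroup.zpow_mem_zpowers _ k

end Cfsg.Agent.H184.Fi22Three
end
end
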