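import Mathlib
import Cfsg.Prelude.Def_PLocal
import Cfsg.Prelude.Def_LocalEven
import Cfsg.Agent.PLocal.ThompsonJA
import Cfsg.Agent.PLocal.PConstrained
import Cfsg.Agent.PLocal.S4FreeClosure
import Cfsg.Agent.PLocal.S4FreeNoS3
import Cfsg.Agent.Lib.Involves
import Cfsg.Agent.Lib.SylowNormalInf
import Cfsg.Agent.CharactersDeep.QuatSylow
set_option linter.all false

/-!
# Glauberman's weak closure theorem, `S₄`-free groups: the local case (helper184)

`step` : `H` finite and `S₄`-free, `S` a Sylow `2`-subgroup, `x ∈ S` centralizes `S`, all conjugates of `x` lie in `S`,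
`x * x` is central, every proper subgroup containing `S` centralizes `x` and `J(S)` (generated by the abelian subgroups
of largest order) is not normal. Then `x` is central.
-/

set_option autoImplicit false

universe u

namespace Cfsg.Agent.H184.S4Local

open Cfsg Subgroup
open Cfsg.Agent.PLocal.S4FreeClosureBasic Cfsg.Agent.PLocal.S4FreeClosure
open Cfsg.Agent.PLocal.ThompsonJA

variable {H : Type u} [Group H] [Finite H]

omit [Finite H] in
/-- `C(V/N)` centralizes `x`, where `N` is a central `2`-group and `V` the normal closure of `x`. -/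
theorem comm_of_mod [Finite H] (S : Sylow 2 H) {x : H} (hSx : ∀ s ∈ (S : Subgroup H), s * x = x * s)
    {N : Subgroup H} (hN : ∀ n ∈ N, ∀ g : H, g * n = n * g) (hNp : IsPGroup 2 N)
    (C : Subgroup H) [hC : C.Normal] (hCx : ∀ c ∈ C, c * x * c⁻¹ * x⁻¹ ∈ N) :
    ∀ c ∈ C, c * x = x * c := by
  have hfact : Fact (Nat.Prime 2) := ⟨Nat.prime_two⟩
  let θ : C →* N :=
    { toFun := fun c => ⟨(c : H) * x * (c : H)⁻¹ * x⁻¹, hCx c c.2⟩
      map_one' := by
        apply Subtype.ext
        simp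
      map_mul' := by
        intro a b
        apply Subtype.ext
        change (a * b : H) * x * (a * b : H)⁻¹ * x⁻¹ =
          ((a : H) * x * (a : H)⁻¹ * x⁻¹) * ((b : H) * x * (b : H)⁻¹ * x⁻¹)
        have h1 := hN _ (hCx b b.2) ((a : H))
        have h2 := hN _ (hCx b b.2) ((a : H) * x * (a : H)⁻¹ * x⁻¹)
        rw [h2]
        have h3 : (a * b : H) * x * (a * b : H)⁻¹ * x⁻¹ =
            ((a : H) * ((b : H) * x * (b : H)⁻¹ * x⁻¹)) * (x * (a : H)⁻¹ * x⁻¹) := by group
        rw [h3, h1]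
        group }
  have hker : ∀ c : C, (c : H) ∈ (S : Subgroup H) → c ∈ θ.ker := by
    intro c hc
    rw [MonoidHom.mem_ker]
    apply Subtype.ext
    change (c : H) * x * (c : H)⁻¹ * x⁻¹ = 1
    rw [hSx c hc]
    group
  have hle : (S : Subgroup H).subgroupOf C ≤ θ.ker := fun c hc => hker c hc
  have hodd : ¬ 2 ∣ θ.ker.index := by
    intro h
    have h1 := CharactersDeep.QuatSylow.not_dvd_relIndex_of_normal S C
    apply h1
    exact h.trans (Subgroup.index_dvd_of_le hle)
  have hpow : θ.ker.index = 1 := by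
    rw [Subgroup.index_ker] at hodd ⊢
    obtain ⟨k, hk⟩ := IsPGroup.iff_card.1 (hNp.to_subgroup θ.range)
    rw [hk] at hodd ⊢
    rcases Nat.eq_zero_or_pos k with h0 | h0
    · rw [h0, pow_zero]
    · exact absurd (dvd_pow_self 2 h0.ne') hodd
  have htop : θ.ker = ⊤ := Subgroup.index_eq_one.1 hpow
  intro c hc
  have h1 : (⟨c, hc⟩ : C) ∈ θ.ker := by rw [htop]; trivial
  have h2 := congrArg Subtype.val (MonoidHom.mem_ker.1 h1)
  change c * x * c⁻¹ * x⁻¹ = 1 at h2
  rw [mul_inv_eq_one, mul_inv_eq_iff_eq_mul] at h2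
  exact h2

/-- **The local step.** -/
theorem step (h4 : ¬ Cfsg.Agent.Lib.Involves.Involves H (Equiv.Perm (Fin 4))) (S : Sylow 2 H) (x : H)
    (hSx : ∀ s ∈ (S : Subgroup H), s * x = x * s) (hcl : ∀ g : H, g * x * g⁻¹ ∈ (S : Subgroup H))
    (hmax : ∀ M : Subgroup H, (S : Subgroup H) ≤ M → M ≠ ⊤ → ∀ m ∈ M, m * x = x * m)
    (hx2 : ∀ g : H, g * (x * x) = x * x * g)
    (hJ : normalizer (thompsonSubgroupAOf (S : Subgroup H) : Set H) ≠ ⊤) : ∀ g : H, g * x = x * g := by
  classical
  have hfact : Fact (Nat.Prime 2) := ⟨Nat.prime_two⟩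
  have hSp : IsPGroup 2 (S : Subgroup H) := S.2
  have hxS : x ∈ (S : Subgroup H) := by simpa using hcl 1
  -- the central subgroup `N`
  obtain ⟨N, hNdef⟩ : ∃ N : Subgroup H, N = zpowers (x * x) := ⟨_, rfl⟩
  have hNc : ∀ n ∈ N, ∀ g : H, g * n = n * g := by
    intro n hn g
    rw [hNdef] at hn
    obtain ⟨k, rfl⟩ := mem_zpowers_iff.1 hn
    have h1 : Commute g (x * x) := hx2 g
    exact (h1.zpow_right k).eq
  have hNn : N.Normal := ⟨fun n hn g => by rw [hNc n hn g, mul_inv_cancel_right]; exact hn⟩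
  have hNS : N ≤ (S : Subgroup H) := by
    rw [hNdef, zpowers_le]; exact mul_mem hxS hxS
  have hNp : IsPGroup 2 N := hSp.to_le hNS
  have hx2N : x * x ∈ N := by rw [hNdef]; exact mem_zpowers _
  -- the subgroup `V`
  obtain ⟨V, hVdef⟩ : ∃ V, V = normalClosure ({x} : Set H) := ⟨_, rfl⟩
  have hVn : V.Normal := by rw [hVdef]; infer_instance
  have hxV : x ∈ V := by rw [hVdef]; exact subset_normalClosure rfl
  have hVS : V ≤ (S : Subgroup H) := by
    rw [hVdef, normalClosure, closure_le]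
    intro y hy
    obtain ⟨a, ha, hay⟩ := Group.mem_conjugatesOfSet_iff.1 hy
    rw [Set.mem_singleton_iff] at ha
    subst ha
    obtain ⟨c, hc⟩ := isConj_iff.1 hay
    rw [← hc]
    exact hcl c
  have hVcc : V ≤ centralizer (V : Set H) := by
    have h1 : (centralizer (V : Set H)).Normal := by infer_instance
    have h2 : x ∈ centralizer (V : Set H) :=
      mem_centralizer_iff.2 fun v hv => hSx v (hVS hv)
    conv_lhs => rw [hVdef]
    exact normalClosure_le_normal (by rintro _ rfl; exact h2)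
  have hVc : ∀ v ∈ V, ∀ w ∈ V, v * w = w * v := fun v hv w hw =>
    (mem_centralizer_iff.1 (hVcc hv) w hw).symm
  have hNV : N ≤ V := by rw [hNdef, zpowers_le]; exact mul_mem hxV hxV
  have hVsq : ∀ v ∈ V, v * v ∈ N := by
    intro v hv
    rw [hVdef] at hv
    induction hv using Subgroup.closure_induction with
    | mem y hy =>
      obtain ⟨a, ha, hay⟩ := Group.mem_conjugatesOfSet_iff.1 hy
      rw [Set.mem_singleton_iff] at ha
      subst ha
      obtain ⟨c, hc⟩ := isConj_iff.1 hay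
      have : y * y = c * (a * a) * c⁻¹ := by rw [← hc]; group
      rw [this]
      exact hNn.conj_mem _ hx2N c
    | one => rw [mul_one]; exact one_mem N
    | mul y z hy hz h1 h2 =>
      have hy' : y ∈ V := by rw [hVdef]; exact hy
      have hz' : z ∈ V := by rw [hVdef]; exact hz
      have : y * z * (y * z) = (y * y) * (z * z) := by
        rw [mul_assoc y z, ← mul_assoc z y z, hVc z hz' y hy']; group
      rw [this]
      exact mul_mem h1 h2
    | inv y hy h1 =>
      have : y⁻¹ * y⁻¹ = (y * y)⁻¹ := by group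
      rw [this]
      exact inv_mem h1
  -- the quotient
  let π : H →* H ⧸ N := QuotientGroup.mk' N
  have hπs : Function.Surjective π := QuotientGroup.mk'_surjective N
  have hπk : ∀ h : H, π h = 1 ↔ h ∈ N := fun h => QuotientGroup.eq_one_iff h
  let Vb : Subgroup (H ⧸ N) := V.map π
  have hVbn : Vb.Normal := hVn.map π hπs
  have hVbc : ∀ v ∈ Vb, ∀ w ∈ Vb, v * w = w * v := by
    rintro _ ⟨v, hv, rfl⟩ _ ⟨w, hw, rfl⟩
    rw [← map_mul, hVc v hv w hw, map_mul]
  -- elements trivial on `V/N` centralize `V`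
  obtain ⟨C, hCdef⟩ : ∃ C : Subgroup H, C = (centralizer (Vb : Set (H ⧸ N))).comap π := ⟨_, rfl⟩
  have hCn : C.Normal := by rw [hCdef]; infer_instance
  have hCx : ∀ c ∈ C, c * x * c⁻¹ * x⁻¹ ∈ N := by
    intro c hc
    rw [hCdef] at hc
    have h1 := mem_centralizer_iff.1 (mem_comap.1 hc) (π x) ⟨x, hxV, rfl⟩
    rw [← hπk, map_mul, map_mul, map_mul, map_inv, map_inv, ← h1]
    group
  have hCcx := comm_of_mod S hSx hNc hNp C hCx
  have hCV : ∀ c ∈ C, ∀ v ∈ V, c * v = v * c := by
    have h2 : V ≤ centralizer (C : Set H) := by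
      have h1 : (centralizer (C : Set H)).Normal := by infer_instance
      conv_lhs => rw [hVdef]
      refine normalClosure_le_normal ?_
      rintro _ rfl
      exact mem_centralizer_iff.2 fun c hc => hCcx c hc
    intro c hc v hv
    exact mem_centralizer_iff.1 (h2 hv) c hc
  -- the action on `V/N`
  let _ : CommGroup ↥Vb := { (inferInstance : Group ↥Vb) with
    mul_comm := fun a b => Subtype.ext (hVbc a a.2 b b.2) }
  let φ : (H ⧸ N) →* MulAut ↥Vb := MulAut.conjNormal
  have hφ : ∀ (g : H ⧸ N) (v : ↥Vb), ((φ g v : ↥Vb) : H ⧸ N) = g * v * g⁻¹ := fun g v => MulAut.conjNormal_apply g v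
  have hexp : ∀ v : ↥Vb, v * v = 1 := by
    rintro ⟨_, v, hv, rfl⟩
    apply Subtype.ext
    change π v * π v = 1
    rw [← map_mul, hπk]
    exact hVsq v hv
  have h4' : ¬ ∃ (K R : Subgroup (H ⧸ N)) (hR : (R.subgroupOf K).Normal),
      Nonempty ((K ⧸ R.subgroupOf K) ≃* Equiv.Perm (Fin 4)) := by
    intro h
    apply h4
    have h1 : Cfsg.Agent.Lib.Involves.Involves (H ⧸ N) (Equiv.Perm (Fin 4)) :=
      Cfsg.Agent.Lib.Involves.involves_iff.mpr h
    exact Cfsg.Agent.Lib.Involves.of_quotient h1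
  have hS3 : PLocal.SFourOffender.NoS3 φ :=
    PLocal.S4FreeNoS3.noS3_of_normal h4' hexp (MulEquiv.refl ↥Vb) φ (fun g a => rfl)
  let Sb : Sylow 2 (H ⧸ N) := S.mapSurjective hπs
  have hSb : (Sb : Subgroup (H ⧸ N)) = (S : Subgroup H).map π := Sylow.coe_mapSurjective hπs S
  let xb : ↥Vb := ⟨π x, x, hxV, rfl⟩
  let U : Subgroup ↥Vb := zpowers xb
  have hxbfix : ∀ s ∈ (Sb : Subgroup (H ⧸ N)), φ s xb = xb := by
    intro s hs
    rw [hSb] at hs
    obtain ⟨s, hs, rfl⟩ := hs
    apply Subtype.ext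
    rw [hφ]
    change π s * π x * (π s)⁻¹ = π x
    rw [← map_mul, hSx s hs, map_mul, mul_inv_cancel_right]
  have hUfix : ∀ s ∈ (Sb : Subgroup (H ⧸ N)), ∀ u ∈ U, φ s u = u := by
    intro s hs u hu
    obtain ⟨k, rfl⟩ := mem_zpowers_iff.1 hu
    rw [map_zpow, hxbfix s hs]
  have hUoff : Unoff φ (Sb : Subgroup (H ⧸ N)) U := by
    refine ⟨fun a ha u hu => ?_, fun B hB _ _ b hb => ?_⟩
    · rw [hUfix a ha u hu]; exact hu
    · rw [mem_cn]
      intro u hu
      exact hUfix b (hB hb) u hu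
  have hWtop : (⨆ g : H ⧸ N, im φ g U) = ⊤ := by
    rw [eq_top_iff]
    rintro ⟨_, v, hv, rfl⟩ -
    have key : ∀ v (hv : v ∈ V), (⟨π v, v, hv, rfl⟩ : ↥Vb) ∈ ⨆ g : H ⧸ N, im φ g U := by
      intro v hv
      have hv' : v ∈ closure (Group.conjugatesOfSet ({x} : Set H)) := by rw [hVdef] at hv; exact hv
      induction hv' using Subgroup.closure_induction with
      | mem y hy =>
        obtain ⟨a, ha, hay⟩ := Group.mem_conjugatesOfSet_iff.1 hy
        rw [Set.mem_singleton_iff] at ha
        subst ha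
        obtain ⟨c, hc⟩ := isConj_iff.1 hay
        refine (le_iSup (fun g : H ⧸ N => im φ g U) (π c)) ?_
        refine ⟨xb, mem_zpowers xb, ?_⟩
        apply Subtype.ext
        change ((φ (π c) xb : ↥Vb) : H ⧸ N) = π y
        rw [hφ, ← hc]
        change π c * π a * (π c)⁻¹ = _
        rw [map_mul, map_mul, map_inv]
      | one =>
        have : (⟨π 1, 1, hv, rfl⟩ : ↥Vb) = 1 := Subtype.ext (map_one π)
        rw [this]
        exact one_mem _
      | mul y z hy hz h1 h2 =>
        have hy' : y ∈ V := by rw [hVdef]; exact hy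
        have hz' : z ∈ V := by rw [hVdef]; exact hz
        have : (⟨π (y * z), y * z, hv, rfl⟩ : ↥Vb) = ⟨π y, y, hy', rfl⟩ * ⟨π z, z, hz', rfl⟩ :=
          Subtype.ext (map_mul π y z)
        rw [this]
        exact mul_mem (h1 hy') (h2 hz')
      | inv y hy h1 =>
        have hy' : y ∈ V := by rw [hVdef]; exact hy
        have : (⟨π y⁻¹, y⁻¹, hv, rfl⟩ : ↥Vb) = (⟨π y, y, hy', rfl⟩ : ↥Vb)⁻¹ :=
          Subtype.ext (map_inv π y)
        rw [this]
        exact inv_mem (h1 hy')
    exact key v hv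
  have hTopOff : Unoff φ (Sb : Subgroup (H ⧸ N)) (⊤ : Subgroup ↥Vb) := by
    rw [← hWtop]
    exact unoff_iSup hexp hS3 Sb hUoff
  -- the abelian subgroups of largest order centralize `V`
  have hAV : ∀ A ∈ maxAbelianIn (S : Subgroup H), A ≤ centralizer (V : Set H) := by
    rintro A ⟨hAS, hAc, hAmax⟩
    have hAab : ∀ a ∈ A, ∀ b ∈ A, a * b = b * a := (isMulCommutative_iff A).mp hAc
    have hNA : N ≤ A := by
      refine le_trans ?_ (inf_centralizer_le_of_mem_maxAbelianIn (P := (S : Subgroup H)) ⟨hAS, hAc, hAmax⟩)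
      exact le_inf hNS fun n hn => mem_centralizer_iff.2 fun a _ => hNc n hn a
    let A₀ : Subgroup H := A ⊓ centralizer (V : Set H)
    have hA₀V : ∀ a ∈ A₀, ∀ v ∈ V, a * v = v * a := fun a ha v hv => (mem_centralizer_iff.1 ha.2 v hv).symm
    have hE : IsMulCommutative (A₀ ⊔ V : Subgroup H) := by
      rw [PLocal.ThompsonJA.isMulCommutative_iff]
      have hmem : ∀ y ∈ A₀ ⊔ V, ∃ a ∈ A₀, ∃ w ∈ V, a * w = y := fun y hy =>
        Subgroup.mem_sup_of_normal_right.mp hy
      intro y hy z hz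
      obtain ⟨a, ha, w, hw, rfl⟩ := hmem y hy
      obtain ⟨b, hb, v, hv, rfl⟩ := hmem z hz
      calc a * w * (b * v) = a * (w * b) * v := by group
        _ = a * (b * w) * v := by rw [hA₀V b hb w hw]
        _ = (a * b) * (w * v) := by group
        _ = (b * a) * (v * w) := by rw [hAab a ha.1 b hb.1, hVc w hw v hv]
        _ = b * (a * v) * w := by group
        _ = b * (v * a) * w := by rw [hA₀V a ha v hv]
        _ = b * v * (a * w) := by group
    have h1 := hAmax _ (sup_le (inf_le_left.trans hAS) hVS) hE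
    -- orders in `H`
    have e1 : Nat.card (A₀ ⊔ V : Subgroup H) = Nat.card V * V.relIndex A₀ := by
      rw [← Subgroup.relIndex_sup_right A₀ V]
      exact (PLocal.PConstrained.card_mul_relIndex_eq le_sup_right).symm
    have e2 : Nat.card A₀ = Nat.card (A₀ ⊓ V : Subgroup H) * V.relIndex A₀ := by
      rw [← Subgroup.inf_relIndex_left A₀ V]
      exact (PLocal.PConstrained.card_mul_relIndex_eq inf_le_left).symm
    -- orders in the quotient
    have hcardmap : ∀ B : Subgroup H, N ≤ B → Nat.card B = Nat.card (B.map π) * Nat.card N := by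
      intro B hB
      have h2 := Subgroup.card_mul_index (π.ker.subgroupOf B)
      have h3 : Nat.card (π.ker.subgroupOf B) = Nat.card N := by
        have hk : π.ker = N := QuotientGroup.ker_mk' N
        rw [hk]
        exact Nat.card_congr (Subgroup.subgroupOfEquivOfLe hB).toEquiv
      have h4 : (π.ker.subgroupOf B).index = Nat.card (B.map π) := by
        have : (π.ker.subgroupOf B).index = π.ker.relIndex B := rfl
        rw [this, Subgroup.relIndex_ker]
      rw [h3, h4] at h2
      rw [← h2, mul_comm]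
    have hNA₀ : N ≤ A₀ := le_inf hNA fun n hn => mem_centralizer_iff.2 fun v _ => hNc n hn v
    have hcn : (A.map π) ⊓ cn φ (⊤ : Subgroup ↥Vb) ≤ A₀.map π := by
      rintro _ ⟨⟨a, ha, rfl⟩, hb⟩
      refine ⟨a, ⟨ha, ?_⟩, rfl⟩
      have haC : a ∈ C := by
        rw [hCdef, mem_comap, mem_centralizer_iff]
        rintro _ ⟨v, hv, rfl⟩
        have h2 := congrArg Subtype.val (mem_cn.mp hb ⟨π v, v, hv, rfl⟩ trivial)
        rw [hφ] at h2
        exact (mul_inv_eq_iff_eq_mul.mp h2).symm
      change a ∈ centralizer (V : Set H)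
      rw [mem_centralizer_iff]
      intro v hv
      exact (hCV a haC v hv).symm
    have hfx : (A₀ ⊓ V).map π ≤ ((⊤ : Subgroup ↥Vb) ⊓ fx φ (A.map π)).map Vb.subtype := by
      rintro _ ⟨v, ⟨hvA, hvV⟩, rfl⟩
      refine ⟨⟨π v, v, hvV, rfl⟩, ⟨trivial, ?_⟩, rfl⟩
      change _ ∈ fx φ (A.map π)
      rw [mem_fx]
      rintro _ ⟨a, ha, rfl⟩
      apply Subtype.ext
      rw [hφ]
      change π a * π v * (π a)⁻¹ = π v
      rw [← map_mul, hAab a ha v hvA.1, map_mul, mul_inv_cancel_right]
    have hoff : Nat.card (⊤ : Subgroup ↥Vb) ≤ ms φ (⊤ : Subgroup ↥Vb) (A.map π) := by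
      change Nat.card (⊤ : Subgroup ↥Vb) ≤
        (cn φ (⊤ : Subgroup ↥Vb)).relIndex (A.map π) * Nat.card ((⊤ : Subgroup ↥Vb) ⊓ fx φ (A.map π) : Subgroup ↥Vb)
      have f1 : Nat.card (⊤ : Subgroup ↥Vb) = Nat.card (V.map π) := by
        rw [Subgroup.card_top]
      have f2 : Nat.card ((A₀ ⊓ V : Subgroup H).map π) ≤
          Nat.card ((⊤ : Subgroup ↥Vb) ⊓ fx φ (A.map π) : Subgroup ↥Vb) := by
        have h5 := Subgroup.card_le_of_le hfx
        rwa [Subgroup.card_map_of_injective Vb.subtype_injective] at h5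
      have f3 : Nat.card ((A.map π : Subgroup (H ⧸ N))) ≤
          Nat.card (A₀.map π) * (cn φ (⊤ : Subgroup ↥Vb)).relIndex (A.map π) := by
        rw [← Subgroup.inf_relIndex_left (A.map π) (cn φ (⊤ : Subgroup ↥Vb)),
          ← PLocal.PConstrained.card_mul_relIndex_eq (inf_le_left :
            A.map π ⊓ cn φ (⊤ : Subgroup ↥Vb) ≤ A.map π)]
        exact Nat.mul_le_mul_right _ (Subgroup.card_le_of_le hcn)
      have g1 := hcardmap A hNA
      have g2 := hcardmap A₀ hNA₀
      have g3 := hcardmap V hNV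
      have g4 := hcardmap (A₀ ⊓ V) (le_inf hNA₀ hNV)
      have hNpos : 0 < Nat.card N := Nat.card_pos
      have hpos : 0 < V.relIndex A₀ := Nat.pos_of_ne_zero (V.subgroupOf A₀).index_ne_zero_of_finite
      have hpos2 : 0 < Nat.card (A₀.map π) := Nat.card_pos
      rw [f1]
      -- `|V| * |V : relIndex| ≤ |A|`
      rw [e1] at h1
      have h6 : Nat.card V * Nat.card A₀ ≤ Nat.card A * Nat.card (A₀ ⊓ V : Subgroup H) := by
        calc Nat.card V * Nat.card A₀ = (Nat.card V * V.relIndex A₀) * Nat.card (A₀ ⊓ V : Subgroup H) := by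
              rw [e2]; ring
          _ ≤ Nat.card A * Nat.card (A₀ ⊓ V : Subgroup H) := Nat.mul_le_mul_right _ h1
      rw [g1, g2, g3, g4] at h6
      have h7 : Nat.card (V.map π) * Nat.card (A₀.map π) ≤
          Nat.card (A.map π) * Nat.card ((A₀ ⊓ V : Subgroup H).map π) := by
        have h8 : (Nat.card (V.map π) * Nat.card (A₀.map π)) * (Nat.card N * Nat.card N) ≤
            (Nat.card (A.map π) * Nat.card ((A₀ ⊓ V : Subgroup H).map π)) * (Nat.card N * Nat.card N) := by
          calc _ = Nat.card (V.map π) * Nat.card N * (Nat.card (A₀.map π) * Nat.card N) := by ring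
            _ ≤ _ := h6
            _ = _ := by ring
        exact Nat.le_of_mul_le_mul_right h8 (Nat.mul_pos hNpos hNpos)
      have h9 : Nat.card (V.map π) * Nat.card (A₀.map π) ≤
          ((cn φ (⊤ : Subgroup ↥Vb)).relIndex (A.map π) *
            Nat.card ((⊤ : Subgroup ↥Vb) ⊓ fx φ (A.map π) : Subgroup ↥Vb)) * Nat.card (A₀.map π) := by
        calc _ ≤ _ := h7
          _ ≤ (Nat.card (A₀.map π) * (cn φ (⊤ : Subgroup ↥Vb)).relIndex (A.map π)) *
              Nat.card ((⊤ : Subgroup ↥Vb) ⊓ fx φ (A.map π) : Subgroup ↥Vb) := Nat.mul_le_mul f3 f2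
          _ = _ := by ring
      exact Nat.le_of_mul_le_mul_right h9 hpos2
    have hab : AbOn φ (A.map π) (⊤ : Subgroup ↥Vb) := by
      rintro _ ⟨a, ha, rfl⟩ _ ⟨b, hb, rfl⟩ u _
      rw [← MulAut.mul_apply, ← MulAut.mul_apply, ← map_mul, ← map_mul, ← map_mul, ← map_mul, hAab a ha b hb]
    have hfin := hTopOff.off (A.map π) (by rw [hSb]; exact map_mono hAS) hab hoff
    intro a ha
    have haC : a ∈ C := by
      rw [hCdef, mem_comap, mem_centralizer_iff]
      rintro _ ⟨v, hv, rfl⟩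
      have h2 := congrArg Subtype.val (mem_cn.mp (hfin ⟨a, ha, rfl⟩) ⟨π v, v, hv, rfl⟩ trivial)
      rw [hφ] at h2
      exact (mul_inv_eq_iff_eq_mul.mp h2).symm
    rw [mem_centralizer_iff]
    intro v hv
    exact (hCV a haC v hv).symm
  have hJV : thompsonSubgroupAOf (S : Subgroup H) ≤ centralizer (V : Set H) := by
    rw [thompsonSubgroupAOf_eq_sSup]
    exact sSup_le hAV
  -- Frattini
  have hCVn : (centralizer (V : Set H)).Normal := by infer_instance
  have hfr : normalizer ((((S : Subgroup H) ⊓ centralizer (V : Set H) : Subgroup H)) : Set H) ⊔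
      centralizer (V : Set H) = ⊤ :=
    Cfsg.Agent.Lib.SylowNormalInf.normalizer_inf_sup_eq_top S (centralizer (V : Set H))
  have h2 : thompsonSubgroupAOf ((S : Subgroup H) ⊓ centralizer (V : Set H)) =
      thompsonSubgroupAOf (S : Subgroup H) :=
    thompsonSubgroupAOf_eq_of_le (le_inf (thompsonSubgroupAOf_le _) hJV) inf_le_left
  have hNJ : ∀ m ∈ normalizer (thompsonSubgroupAOf (S : Subgroup H) : Set H), m * x = x * m :=
    hmax _ (Subgroup.le_normalizer.trans (normalizer_le_normalizer_thompsonSubgroupAOf _)) hJ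
  have h3 : (⊤ : Subgroup H) ≤ centralizer ({x} : Set H) := by
    rw [← hfr]
    refine sup_le ?_ ?_
    · intro c hc
      rw [mem_centralizer_singleton_iff]
      apply hNJ
      rw [← h2]
      exact normalizer_le_normalizer_thompsonSubgroupAOf _ hc
    · intro c hc
      rw [mem_centralizer_singleton_iff]
      exact (mem_centralizer_iff.1 hc x hxV).symm
  intro g
  exact mem_centralizer_singleton_iff.1 (h3 (mem_top g))

end Cfsg.Agent.H184.S4Local
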