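import Mathlib
import Cfsg.Agent.H184.S4Local
import Cfsg.Agent.H184.JQuad
import Cfsg.Agent.H36.Assemble
import Cfsg.Agent.H28.WeakClosure
set_option linter.all false

/-!
# Glauberman's theorem on weakly closed elements (helper184)

* `central_two` : the local case for `S₄`-free groups;
* `weakly_closed_two` : `G` finite and `S₄`-free, `S` a Sylow `2`-subgroup, `x ∈ S` commuting with `N_G(J(S))`
  (`J(S)` generated by the abelian subgroups of largest order): `x` is weakly closed in `S`;
* `weakly_closed_pow` : `x = z ^ p` with `z ∈ Z(S)` commuting with `N_G(J(S))` is weakly closed in `S`, every prime `p`.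
-/

set_option autoImplicit false

universe u

namespace Cfsg.Agent.H184.JWeak

open Cfsg Subgroup
open Cfsg.Agent.PLocal.ThompsonJA

/-- **Local case**, `S₄`-free groups. -/
theorem central_two {H : Type u} [Group H] [Finite H]
    (h4 : ¬ Cfsg.Agent.Lib.Involves.Involves H (Equiv.Perm (Fin 4))) (S : Sylow 2 H)
    (hJ : normalizer (thompsonSubgroupAOf (S : Subgroup H) : Set H) ≠ ⊤) (n : ℕ) :
    ∀ x : H, orderOf x ≤ n → (∀ s ∈ (S : Subgroup H), s * x = x * s) → (∀ g : H, g * x * g⁻¹ ∈ (S : Subgroup H)) →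
      (∀ M : Subgroup H, (S : Subgroup H) ≤ M → M ≠ ⊤ → ∀ m ∈ M, m * x = x * m) → ∀ g : H, g * x = x * g := by
  have hfact : Fact (Nat.Prime 2) := ⟨Nat.prime_two⟩
  induction n with
  | zero =>
    intro x h
    have := orderOf_pos x
    omega
  | succ n ih =>
    intro x hn hSx hcl hmax
    have hxS : x ∈ (S : Subgroup H) := by simpa using hcl 1
    by_cases hx1 : x = 1
    · intro g
      rw [hx1, mul_one, one_mul]
    refine S4Local.step h4 S x hSx hcl hmax ?_ hJ
    have hord : orderOf (x * x) < orderOf x := by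
      obtain ⟨k, hk⟩ := IsPGroup.iff_orderOf.1 S.2 ⟨x, hxS⟩
      rw [Subgroup.orderOf_mk] at hk
      have hk0 : k ≠ 0 := by
        rintro rfl
        rw [pow_zero] at hk
        exact hx1 (orderOf_eq_one_iff.1 hk)
      have hdvd : 2 ∣ orderOf x := by rw [hk]; exact dvd_pow_self 2 hk0
      rw [← pow_two, orderOf_pow_of_dvd two_ne_zero hdvd]
      exact Nat.div_lt_self (orderOf_pos x) one_lt_two
    refine ih (x * x) (by omega) ?_ ?_ ?_
    · intro s hs
      have h1 : Commute s x := hSx s hs
      exact (h1.mul_right h1).eq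
    · intro g
      have : g * (x * x) * g⁻¹ = (g * x * g⁻¹) * (g * x * g⁻¹) := by group
      rw [this]
      exact mul_mem (hcl g) (hcl g)
    · intro M hM hM' m hm
      have h1 : Commute m x := hmax M hM hM' m hm
      exact (h1.mul_right h1).eq

/-- `S₄`-free groups: an element `x` of the Sylow `2`-subgroup `S` which commutes with `N_G(J(S))` is weakly closed. -/
theorem weakly_closed_two {G : Type u} [Group G] [Finite G]
    (h4 : ¬ Cfsg.Agent.Lib.Involves.Involves G (Equiv.Perm (Fin 4))) (S : Sylow 2 G) (x : G)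
    (hxS : x ∈ (S : Subgroup G))
    (hx : ∀ g ∈ normalizer (thompsonSubgroupAOf (S : Subgroup G) : Set G), g * x = x * g) (g : G)
    (hg : g * x * g⁻¹ ∈ (S : Subgroup G)) : g * x * g⁻¹ = x := by
  have hfact : Fact (Nat.Prime 2) := ⟨Nat.prime_two⟩
  have hSi : ¬ 2 ∣ (S : Subgroup G).relIndex ⊤ := by
    rw [relIndex_top_right]; exact S.not_dvd_index
  have hSJ : (S : Subgroup G) ≤ normalizer (thompsonSubgroupAOf (S : Subgroup G) : Set G) :=
    Subgroup.le_normalizer.trans (normalizer_le_normalizer_thompsonSubgroupAOf _)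
  refine Cfsg.Agent.H36.Assemble.mem_centralizer_of_conj (p := 2) (W := fun P => thompsonSubgroupAOf P)
    (JQuad.isConjugacyFunctor 2) (fun P _ => JQuad.center_le P) x (fun P => x ∈ P ⊓ centralizer (P : Set G))
    (fun P hP => hP) ?_ ?_ ⊤ S le_top S.isPGroup' hSi
    ⟨hxS, mem_centralizer_iff.2 fun s hs => hx s (hSJ hs)⟩ ?_ g trivial hg
  · intro S T _ hxS hxT _
    exact ⟨⟨hxS.1, le_normalizer hxT⟩, centralizer_le (fun y hy => hy.1) hxS.2⟩
  · intro H S hSH hSp hSi hxS hxO hN hmax
    have hinj : Function.Injective H.subtype := H.subtype_injective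
    have hSp' : IsPGroup 2 (S.subgroupOf H) := hSp.comap_of_injective H.subtype hinj
    let P : Sylow 2 ↥H := hSp'.toSylow hSi
    have hPS : (P : Subgroup ↥H) = S.subgroupOf H := rfl
    have hPmap : (P : Subgroup ↥H).map H.subtype = S := by rw [hPS]; exact map_subgroupOf_eq_of_le hSH
    have hxH : x ∈ H := hSH hxS.1
    have h4' : ¬ Cfsg.Agent.Lib.Involves.Involves ↥H (Equiv.Perm (Fin 4)) := fun h =>
      h4 (Cfsg.Agent.Lib.Involves.of_subgroup h)
    have hcore : (⟨x, hxH⟩ : ↥H) ∈ pCore 2 ↥H := by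
      obtain ⟨y, hy, hyx⟩ := hxO
      have : y = ⟨x, hxH⟩ := Subtype.ext hyx
      rw [← this]; exact hy
    have hJ' : normalizer (thompsonSubgroupAOf (P : Subgroup ↥H) : Set ↥H) ≠ ⊤ := by
      intro htop
      apply hN
      intro h hh
      have h1 : (⟨h, hh⟩ : ↥H) ∈ normalizer (thompsonSubgroupAOf (P : Subgroup ↥H) : Set ↥H) := by
        rw [htop]; trivial
      have h2 := Subgroup.le_normalizer_map H.subtype (H := thompsonSubgroupAOf (P : Subgroup ↥H)) ⟨_, h1, rfl⟩
      rw [map_thompsonSubgroupAOf _ hinj, hPmap] at h2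
      exact h2
    have key := central_two h4' P hJ' (orderOf (⟨x, hxH⟩ : ↥H)) ⟨x, hxH⟩ le_rfl ?_ ?_ ?_
    · intro h hh
      rw [mem_centralizer_singleton_iff]
      exact congrArg Subtype.val (key ⟨h, hh⟩)
    · intro s hs
      exact Subtype.ext (mem_centralizer_iff.1 hxS.2 _ hs)
    · intro h
      have hn : (pCore 2 ↥H).Normal := Lib.Cores.pCore_normal 2
      exact Lib.Cores.pCore_le_sylow P (hn.conj_mem _ hcore h)
    · intro M hSM hM m hm
      have h1 : M.map H.subtype ≤ centralizer ({x} : Set G) := by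
        refine hmax _ ?_ ?_
        · rw [← hPmap]
          exact map_mono hSM
        · refine lt_of_le_of_ne (map_subtype_le M) ?_
          intro heq
          apply hM
          apply map_injective hinj
          rw [heq, ← MonoidHom.range_eq_map, range_subtype]
      exact Subtype.ext (mem_centralizer_singleton_iff.1 (h1 ⟨m, hm, rfl⟩))
  · rw [top_inf_eq, mem_centralizer_iff]
    intro h hh
    exact hx h hh

/-- All primes: a `p`-th power `x` of an element of `Z(S)` which commutes with `N_G(J(S))` is weakly closed in `S`. -/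
theorem weakly_closed_pow {G : Type u} [Group G] [Finite G] {p : ℕ} [Fact p.Prime] (S : Sylow p G) (z x : G)
    (hz : z ∈ (S : Subgroup G) ⊓ centralizer ((S : Subgroup G) : Set G)) (hzx : z ^ p = x)
    (hx : ∀ g ∈ normalizer (thompsonSubgroupAOf (S : Subgroup G) : Set G), g * x = x * g) (g : G)
    (hg : g * x * g⁻¹ ∈ (S : Subgroup G)) : g * x * g⁻¹ = x := by
  refine (Cfsg.Agent.H36.Assemble.pow_weaklyClosed (p := p) (W := fun P => thompsonSubgroupAOf P) S
    (JQuad.isConjugacyFunctor p) (fun P _ => JQuad.center_le P) ?_).1 x ⟨?_, ?_⟩ g hg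
  · intro H T hTH hTp hTi hN
    have hinj : Function.Injective H.subtype := H.subtype_injective
    have hTp' : IsPGroup p (T.subgroupOf H) := hTp.comap_of_injective H.subtype hinj
    let P : Sylow p ↥H := hTp'.toSylow hTi
    have hPT : (P : Subgroup ↥H) = T.subgroupOf H := rfl
    have hPmap : (P : Subgroup ↥H).map H.subtype = T := by rw [hPT]; exact map_subgroupOf_eq_of_le hTH
    have hJ' : normalizer (thompsonSubgroupAOf (P : Subgroup ↥H) : Set ↥H) ≠ ⊤ := by
      intro htop
      apply hN
      intro h hh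
      have h1 : (⟨h, hh⟩ : ↥H) ∈ normalizer (thompsonSubgroupAOf (P : Subgroup ↥H) : Set ↥H) := by
        rw [htop]; trivial
      have h2 := Subgroup.le_normalizer_map H.subtype (H := thompsonSubgroupAOf (P : Subgroup ↥H)) ⟨_, h1, rfl⟩
      rw [map_thompsonSubgroupAOf _ hinj, hPmap] at h2
      exact h2
    obtain ⟨g, hgP, hgQ, hq⟩ := JQuad.exists_quadratic P hJ'
    refine ⟨(g : G), ?_, ?_, ?_⟩
    · rw [← hPmap]; exact ⟨g, hgP, rfl⟩
    · rintro ⟨y, hy, hyg⟩
      have : y = g := Subtype.ext hyg
      rw [this] at hy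
      exact hgQ hy
    · have h3 := congrArg (fun K : Subgroup ↥H => K.map H.subtype) hq
      simp only [map_commutator, MonoidHom.map_zpowers, Subgroup.map_bot] at h3
      rw [map_inf_centralizer _ hinj] at h3
      exact h3
  · exact Subgroup.subset_closure ⟨z, hz, hzx⟩
  · change x ∈ centralizer (normalizer (thompsonSubgroupAOf (S : Subgroup G) : Set G) : Set G)
    exact mem_centralizer_iff.2 fun h hh => hx h hh

end Cfsg.Agent.H184.JWeak
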